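import Mathlib

/-!
A group built from a vertex stabiliser and one edge element maps isomorphically onto a group acting on a
graph in which triangles and squares lift to closed paths and squares and short cycles suffice.
-/

set_option autoImplicit false

namespace Cfsg.Agent.Small.SUPres

variable {H G X : Type*} [Group H] [Group G] [MulAction G X]

variable (H G X) in
/-- A vertex group and an edge element over a graph action. -/
structure CoverData where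
  π : H →* G
  adj : X → X → Prop
  symm : ∀ a b, adj a b → adj b a
  inv : ∀ (g : G) a b, adj a b → adj (g • a) (g • b)
  a₀ : X
  A : Subgroup H
  t : H
  fix : ∀ x ∈ A, π x • a₀ = a₀
  inj : ∀ x ∈ A, π x = 1 → x = 1
  onto : ∀ g : G, g • a₀ = a₀ → ∃ x ∈ A, π x = g
  edge : adj a₀ (π t • a₀)
  tr_edge : ∀ b, adj a₀ b → ∃ g : G, g • a₀ = a₀ ∧ g • (π t • a₀) = b
  stab₂ : ∀ g : G, g • a₀ = a₀ → g • (π t • a₀) = π t • a₀ → ∃ x ∈ A, π x = g ∧ t⁻¹ * x * t ∈ A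
  back : ∃ k ∈ A, t * k * t ∈ A
  gen : Subgroup.closure ((A : Set H) ∪ {t}) = ⊤
  common : ∀ a b : X, ∃ w, adj a w ∧ adj w b

namespace CoverData

variable (D : CoverData H G X)

/-- Neighbouring cosets. -/
def E (P Q : H ⧸ D.A) : Prop := ∃ h : H, P = (h : H ⧸ D.A) ∧ Q = ((h * D.t : H) : H ⧸ D.A)

/-- The projection to the graph. -/
def p (P : H ⧸ D.A) : X :=
  Quotient.liftOn' P (fun h => D.π h • D.a₀) fun h h' hh => by
    have hm : h⁻¹ * h' ∈ D.A := QuotientGroup.leftRel_apply.1 hh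
    have := D.fix _ hm
    rw [map_mul, map_inv, mul_smul, inv_smul_eq_iff] at this
    exact this.symm

@[simp] theorem p_mk (h : H) : D.p (h : H ⧸ D.A) = D.π h • D.a₀ := rfl

theorem mk_mul_mem (h : H) {x : H} (hx : x ∈ D.A) : ((h * x : H) : H ⧸ D.A) = (h : H ⧸ D.A) :=
  QuotientGroup.eq.2 (by rw [_root_.mul_inv_rev, mul_assoc, inv_mul_cancel, mul_one]; exact inv_mem hx)

theorem E_symm {P Q : H ⧸ D.A} (h : D.E P Q) : D.E Q P := by
  obtain ⟨h, rfl, rfl⟩ := h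
  obtain ⟨k, hk, hk'⟩ := D.back
  refine ⟨h * D.t * k, (D.mk_mul_mem _ hk).symm, ?_⟩
  rw [show h * D.t * k * D.t = h * (D.t * k * D.t) by group, D.mk_mul_mem _ hk']

theorem E_smul {P Q : H ⧸ D.A} (h : D.E P Q) (g : H) : D.E (g • P) (g • Q) := by
  obtain ⟨h, rfl, rfl⟩ := h
  exact ⟨g * h, rfl, by rw [mul_assoc]; rfl⟩

theorem E_adj {P Q : H ⧸ D.A} (h : D.E P Q) : D.adj (D.p P) (D.p Q) := by
  obtain ⟨h, rfl, rfl⟩ := h
  simp only [p_mk, map_mul, mul_smul]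
  exact D.inv _ _ _ D.edge

theorem exists_lift {P : H ⧸ D.A} {b : X} (h : D.adj (D.p P) b) : ∃ Q, D.E P Q ∧ D.p Q = b := by
  obtain ⟨h₀, rfl⟩ := QuotientGroup.mk_surjective P
  have h' : D.adj D.a₀ ((D.π h₀)⁻¹ • b) := by
    have := D.inv (D.π h₀)⁻¹ _ _ h
    rwa [p_mk, inv_smul_smul] at this
  obtain ⟨g, hg, hgb⟩ := D.tr_edge _ h'
  obtain ⟨x, hx, rfl⟩ := D.onto g hg
  refine ⟨((h₀ * x * D.t : H) : H ⧸ D.A), ⟨h₀ * x, (D.mk_mul_mem _ hx).symm, rfl⟩, ?_⟩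
  rw [p_mk, map_mul, map_mul, mul_smul, mul_smul, hgb, smul_inv_smul]

theorem lift_unique {P Q Q' : H ⧸ D.A} (h : D.E P Q) (h' : D.E P Q') (hp : D.p Q = D.p Q') : Q = Q' := by
  obtain ⟨h, rfl, rfl⟩ := h
  obtain ⟨h', e, rfl⟩ := h'
  set y := h⁻¹ * h' with hy
  have hyA : y ∈ D.A := QuotientGroup.eq.1 e
  rw [show h' = h * y by rw [hy, mul_inv_cancel_left]] at hp ⊢
  simp only [p_mk, map_mul, mul_smul] at hp
  obtain ⟨x, hx, hxy, hxt⟩ := D.stab₂ (D.π y) (D.fix y hyA) (smul_left_cancel _ hp).symm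
  have : x = y := mul_inv_eq_one.1 (D.inj _ (mul_mem hx (inv_mem hyA)) (by rw [map_mul, map_inv, hxy, mul_inv_cancel]))
  subst this
  rw [show h * y * D.t = h * D.t * (D.t⁻¹ * y * D.t) by group, D.mk_mul_mem _ hxt]

/-- Triangles lift to triangles. -/
def TriOK : Prop := ∀ P Q R, D.E P Q → D.E Q R → D.adj (D.p R) (D.p P) → D.E R P

theorem triOK_of_base (h : ∀ c, D.adj D.a₀ c → D.adj (D.π D.t • D.a₀) c →
    ∃ Q, D.E (D.t : H ⧸ D.A) Q ∧ D.p Q = c ∧ D.E Q ((1 : H) : H ⧸ D.A)) : D.TriOK := by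
  intro P Q R hPQ hQR hRP
  obtain ⟨g, rfl, rfl⟩ := hPQ
  have e1 : g⁻¹ • ((g : H) : H ⧸ D.A) = ((1 : H) : H ⧸ D.A) := by
    show ((g⁻¹ * g : H) : H ⧸ D.A) = _
    rw [inv_mul_cancel]
  have e2 : g⁻¹ • ((g * D.t : H) : H ⧸ D.A) = (D.t : H ⧸ D.A) := by
    show ((g⁻¹ * (g * D.t) : H) : H ⧸ D.A) = _
    rw [inv_mul_cancel_left]
  have h1 : D.E (D.t : H ⧸ D.A) (g⁻¹ • R) := by have := D.E_smul hQR g⁻¹; rwa [e2] at this
  have hp : ∀ (x : H) (S : H ⧸ D.A), D.p (x • S) = D.π x • D.p S := fun x S => by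
    obtain ⟨s, rfl⟩ := QuotientGroup.mk_surjective S
    show D.p ((x * s : H) : H ⧸ D.A) = _
    rw [p_mk, p_mk, map_mul, mul_smul]
  have hc1 : D.adj D.a₀ (D.p (g⁻¹ • R)) := by
    refine D.symm _ _ ?_
    have := D.inv (D.π g⁻¹) _ _ hRP
    rw [← hp, ← hp, e1, p_mk, map_one, one_smul] at this
    exact this
  obtain ⟨S, hS1, hS2, hS3⟩ := h _ hc1 (by simpa using D.E_adj h1)
  have hSR : S = g⁻¹ • R := D.lift_unique hS1 h1 hS2
  subst hSR
  have := D.E_smul hS3 g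
  rw [smul_inv_smul] at this
  convert this using 1
  show _ = ((g * 1 : H) : H ⧸ D.A)
  rw [mul_one]

theorem triOK_of_orbit
    (htr : ∀ c c', D.adj D.a₀ c → D.adj (D.π D.t • D.a₀) c → D.adj D.a₀ c' → D.adj (D.π D.t • D.a₀) c' →
      ∃ g : G, g • D.a₀ = D.a₀ ∧ g • (D.π D.t • D.a₀) = D.π D.t • D.a₀ ∧ g • c = c')
    (hone : ∃ Q, D.E (D.t : H ⧸ D.A) Q ∧ D.E Q ((1 : H) : H ⧸ D.A)) : D.TriOK := by
  refine D.triOK_of_base fun c hc hc' => ?_
  obtain ⟨Q, hQ, hQ'⟩ := hone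
  have a1 : D.adj D.a₀ (D.p Q) := by simpa using D.symm _ _ (D.E_adj hQ')
  have a2 : D.adj (D.π D.t • D.a₀) (D.p Q) := by simpa using D.E_adj hQ
  obtain ⟨g, g1, g2, g3⟩ := htr _ _ a1 a2 hc hc'
  obtain ⟨x, hx, rfl, hxt⟩ := D.stab₂ g g1 g2
  have e2 : x • (D.t : H ⧸ D.A) = (D.t : H ⧸ D.A) := by
    show ((x * D.t : H) : H ⧸ D.A) = _
    rw [show x * D.t = D.t * (D.t⁻¹ * x * D.t) by group, D.mk_mul_mem _ hxt]
  have e1 : x • ((1 : H) : H ⧸ D.A) = ((1 : H) : H ⧸ D.A) := by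
    show ((x * 1 : H) : H ⧸ D.A) = _
    rw [mul_one]; exact (QuotientGroup.eq.2 (by simpa using hx)).symm
  refine ⟨x • Q, ?_, ?_, ?_⟩
  · have := D.E_smul hQ x; rwa [e2] at this
  · obtain ⟨s, rfl⟩ := QuotientGroup.mk_surjective Q
    rw [← g3]
    show D.p ((x * s : H) : H ⧸ D.A) = _
    rw [p_mk, p_mk, map_mul, mul_smul]
  · have := D.E_smul hQ' x; rwa [e1] at this

/-- Two paths of length two with the same projected ends have the same ends. -/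
def Agree (a b v v' : X) : Prop :=
  ∀ P Q R Q' R', D.p P = a → D.E P Q → D.p Q = v → D.E Q R → D.p R = b →
    D.E P Q' → D.p Q' = v' → D.E Q' R' → D.p R' = b → R = R'

theorem agree_symm {a b v v' : X} (h : D.Agree a b v v') : D.Agree a b v' v :=
  fun P Q R Q' R' hP h1 h2 h3 h4 h5 h6 h7 h8 => (h P Q' R' Q R hP h5 h6 h7 h8 h1 h2 h3 h4).symm

theorem agree_refl (a b v : X) : D.Agree a b v v := fun P Q R Q' R' _ h1 h2 h3 h4 h5 h6 h7 h8 => by
  obtain rfl := D.lift_unique h1 h5 (h2.trans h6.symm)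
  exact D.lift_unique h3 h7 (h4.trans h8.symm)

theorem agree_trans {a b v w v' : X} (haw : D.adj a w) (hwb : D.adj w b) (h : D.Agree a b v w)
    (h' : D.Agree a b w v') : D.Agree a b v v' := by
  intro P Q R Q' R' hP h1 h2 h3 h4 h5 h6 h7 h8
  obtain ⟨W, hW, hWp⟩ := D.exists_lift (P := P) (b := w) (by rwa [hP])
  obtain ⟨S, hS, hSp⟩ := D.exists_lift (P := W) (b := b) (by rwa [hWp])
  exact (h P Q R W S hP h1 h2 h3 h4 hW hWp hS hSp).trans (h' P W S Q' R' hP hW hWp hS hSp h5 h6 h7 h8)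

theorem agree_of_adj (htri : D.TriOK) {a b v v' : X} (h : D.adj v v') : D.Agree a b v v' := by
  intro P Q R Q' R' _ h1 h2 h3 h4 h5 h6 h7 h8
  have hQ : D.E Q Q' := D.E_symm (htri Q P Q' (D.E_symm h1) h5 (by rw [h2, h6]; exact D.symm _ _ h))
  have hR : D.E R' Q := htri Q Q' R' hQ h7 (by rw [h8, h2, ← h4, ← h2]; exact D.symm _ _ (D.E_adj h3))
  exact D.lift_unique h3 (D.E_symm hR) (h4.trans h8.symm)

/-- A common neighbour of all four vertices. -/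
theorem agree_of_apex (htri : D.TriOK) {a b v v' x : X} (ha : D.adj a x) (hb : D.adj x b) (hv : D.adj v x)
    (hv' : D.adj x v') : D.Agree a b v v' :=
  D.agree_trans ha hb (D.agree_of_adj htri hv) (D.agree_of_adj htri hv')

/-- Interchanging the two pairs. -/
theorem agree_swap {a b v v' : X} (h : D.Agree v v' a b) :
    D.Agree a b v v' := by
  intro P Q R Q' R' hP h1 h2 h3 h4 h5 h6 h7 h8
  obtain ⟨W, hW, hWp⟩ := D.exists_lift (P := R) (b := v') (by rw [h4, ← h8, ← h6]; exact D.symm _ _ (D.E_adj h7))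
  have e : Q' = W := h Q P Q' R W h2 (D.E_symm h1) hP h5 h6 h3 h4 hW hWp
  subst e
  exact D.lift_unique (D.E_symm hW) h7 (h4.trans h8.symm)

theorem p_smul (x : H) (S : H ⧸ D.A) : D.p (x • S) = D.π x • D.p S := by
  obtain ⟨s, rfl⟩ := QuotientGroup.mk_surjective S
  show D.p ((x * s : H) : H ⧸ D.A) = _
  rw [p_mk, p_mk, map_mul, mul_smul]

theorem surjective : Function.Surjective D.π := by
  intro g
  obtain ⟨w, h1, h2⟩ := D.common D.a₀ (g • D.a₀)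
  obtain ⟨Q, -, hQ⟩ := D.exists_lift (P := ((1 : H) : H ⧸ D.A)) (b := w) (by rwa [p_mk, map_one, one_smul])
  obtain ⟨R, -, hR⟩ := D.exists_lift (P := Q) (b := g • D.a₀) (by rwa [hQ])
  obtain ⟨h', rfl⟩ := QuotientGroup.mk_surjective R
  rw [p_mk] at hR
  obtain ⟨x, hx, hxg⟩ := D.onto ((D.π h')⁻¹ * g) (by rw [mul_smul, ← hR, inv_smul_smul])
  exact ⟨h' * x, by rw [map_mul, hxg, mul_inv_cancel_left]⟩

theorem agree_smul {a b v v' : X} (h : D.Agree a b v v') (g : G) :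
    D.Agree (g • a) (g • b) (g • v) (g • v') := by
  obtain ⟨x, rfl⟩ := D.surjective g
  intro P Q R Q' R' hP h1 h2 h3 h4 h5 h6 h7 h8
  have hi : ∀ (S : H ⧸ D.A) (c : X), D.p S = D.π x • c → D.p (x⁻¹ • S) = c := fun S c e => by
    rw [D.p_smul, e, map_inv, inv_smul_smul]
  exact MulAction.injective x⁻¹ (h _ _ _ _ _ (hi _ _ hP) (D.E_smul h1 _) (hi _ _ h2) (D.E_smul h3 _)
    (hi _ _ h4) (D.E_smul h5 _) (hi _ _ h6) (D.E_smul h7 _) (hi _ _ h8))

/-- A relation between two paths of length two from the base vertex. -/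
theorem agree_of_rel {x y₁ y₂ z : H} (hx : x ∈ D.A) (hy₁ : y₁ ∈ D.A) (hy₂ : y₂ ∈ D.A) (hz : z ∈ D.A)
    (hrel : D.t * x * D.t * z = y₁ * D.t * y₂ * D.t) :
    D.Agree D.a₀ (D.π (D.t * x * D.t) • D.a₀) (D.π D.t • D.a₀) (D.π (y₁ * D.t) • D.a₀) := by
  intro P Q R Q' R' hP h1 h2 h3 h4 h5 h6 h7 h8
  obtain ⟨h, rfl⟩ := QuotientGroup.mk_surjective P
  obtain ⟨x₀, hx₀, hx₀'⟩ := D.onto (D.π h) (by rwa [p_mk] at hP)
  set k := h * x₀⁻¹ with hk
  have hk1 : D.π k = 1 := by rw [hk, map_mul, map_inv, hx₀', mul_inv_cancel]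
  have hPk : ((h : H) : H ⧸ D.A) = ((k : H) : H ⧸ D.A) := by rw [hk, D.mk_mul_mem _ (inv_mem hx₀)]
  have e1 : Q = ((k * D.t : H) : H ⧸ D.A) := D.lift_unique h1 ⟨k, hPk, rfl⟩
    (by rw [h2, p_mk, map_mul D.π k, hk1, one_mul])
  subst e1
  have e2 : R = ((k * (D.t * x * D.t) : H) : H ⧸ D.A) := D.lift_unique h3
    ⟨k * D.t * x, (D.mk_mul_mem _ hx).symm, by group⟩ (by rw [h4, p_mk, map_mul D.π k, hk1, one_mul])
  have e3 : Q' = ((k * (y₁ * D.t) : H) : H ⧸ D.A) := D.lift_unique h5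
    ⟨k * y₁, by rw [D.mk_mul_mem _ hy₁, hPk], by group⟩ (by rw [h6, p_mk, map_mul D.π k, hk1, one_mul])
  subst e3
  have ee : k * (y₁ * D.t) * y₂ * D.t = k * (D.t * x * D.t) * z := by
    rw [mul_assoc k (D.t * x * D.t) z, hrel]; group
  have e4 : R' = ((k * (y₁ * D.t) * y₂ * D.t : H) : H ⧸ D.A) := D.lift_unique h7
    ⟨k * (y₁ * D.t) * y₂, (D.mk_mul_mem _ hy₂).symm, rfl⟩
    (by rw [h8, ee, p_mk, map_mul D.π _ z, map_mul D.π k, hk1, one_mul, mul_smul (D.π (D.t * x * D.t)), D.fix z hz])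
  rw [e2, e4, ee, D.mk_mul_mem _ hz]

theorem bijective (htri : D.TriOK)
    (hquad : ∀ a b v v', D.adj a v → D.adj v b → D.adj a v' → D.adj v' b → D.Agree a b v v')
    (hthree : ∀ a b c, D.adj b c → (∃ x, D.adj a x ∧ D.adj x b ∧ D.adj x c) ∨ D.adj a b ∨ D.adj a c) :
    Function.Bijective D.π := by
  classical
  set P₀ : H ⧸ D.A := ((1 : H) : H ⧸ D.A) with hP₀
  have hp₀ : D.p P₀ = D.a₀ := by rw [hP₀, p_mk, map_one, one_smul]
  choose w hw hw' using D.common D.a₀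
  have hL : ∀ b, ∃ R Q, D.E P₀ Q ∧ D.p Q = w b ∧ D.E Q R ∧ D.p R = b := fun b => by
    obtain ⟨Q, hQ, hQp⟩ := D.exists_lift (P := P₀) (b := w b) (by rw [hp₀]; exact hw b)
    obtain ⟨R, hR, hRp⟩ := D.exists_lift (P := Q) (b := b) (by rw [hQp]; exact hw' b)
    exact ⟨R, Q, hQ, hQp, hR, hRp⟩
  choose σ σQ h1 h2 h3 h4 using hL
  have hσ : ∀ (v : X) (Q R : H ⧸ D.A), D.E P₀ Q → D.p Q = v → D.E Q R → σ (D.p R) = R := fun v Q R hQ hQp hR => by
    have a1 : D.adj D.a₀ v := by rw [← hp₀, ← hQp]; exact D.E_adj hQ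
    have a2 : D.adj v (D.p R) := by rw [← hQp]; exact D.E_adj hR
    exact hquad _ _ _ _ (hw _) (hw' _) a1 a2 P₀ _ _ Q R hp₀ (h1 _) (h2 _) (h3 _) (h4 _) hQ hQp hR rfl
  have hnb : ∀ b Q, D.E (σ b) Q → Q = σ (D.p Q) := by
    intro b Q hQ
    have hb : D.adj b (D.p Q) := by have := D.E_adj hQ; rwa [h4] at this
    have hdirect : ∀ c, D.adj D.a₀ c → D.E P₀ (σ c) := fun c hc => D.E_symm
      (htri P₀ (σQ c) (σ c) (h1 c) (h3 c) (by rw [h4, hp₀]; exact D.symm _ _ hc))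
    rcases hthree D.a₀ b (D.p Q) hb with hx | hab | hac
    rotate_left
    · exact (hσ _ _ _ (hdirect b hab) rfl hQ).symm
    · obtain ⟨R, hR, hRp⟩ := D.exists_lift (P := σ (D.p Q)) (b := b) (by rw [h4]; exact D.symm _ _ hb)
      have eR := hσ _ _ _ (hdirect _ hac) rfl hR
      rw [hRp] at eR
      rw [← eR] at hR
      exact D.lift_unique hQ (D.E_symm hR) (h4 _).symm
    obtain ⟨x, x1, x2, x3⟩ := hx
    obtain ⟨W, hW, hWp⟩ := D.exists_lift (P := P₀) (b := x) (by rw [hp₀]; exact x1)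
    obtain ⟨R, hR, hRp⟩ := D.exists_lift (P := W) (b := b) (by rw [hWp]; exact x2)
    obtain ⟨S, hS, hSp⟩ := D.exists_lift (P := W) (b := D.p Q) (by rw [hWp]; exact x3)
    have eR : σ b = R := by
      have := hσ _ _ _ hW rfl hR
      rwa [hRp] at this
    have eS : σ (D.p Q) = S := by
      have := hσ _ _ _ hW rfl hS
      rwa [hSp] at this
    have hRS : D.E R S := D.E_symm (htri R W S (D.E_symm hR) hS (by rw [hSp, hRp]; exact D.symm _ _ hb))
    rw [← eR] at hRS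
    rw [eS]
    exact D.lift_unique hQ hRS hSp.symm
  have h0 : σ D.a₀ = P₀ := by
    obtain ⟨Q, hQ, hQp⟩ := D.exists_lift (P := P₀) (b := D.π D.t • D.a₀) (by rw [hp₀]; exact D.edge)
    have := hσ _ Q P₀ hQ hQp (D.E_symm hQ)
    rwa [hp₀] at this
  let S : Set H := {h | σ (D.π h • D.a₀) = (h : H ⧸ D.A)}
  have hA : ∀ h ∈ S, ∀ x ∈ D.A, h * x ∈ S := fun h hh x hx => by
    show σ _ = _
    rw [map_mul, mul_smul, D.fix x hx, D.mk_mul_mem h hx]; exact hh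
  have ht : ∀ h ∈ S, h * D.t ∈ S := fun h hh => by
    have hh' : σ (D.π h • D.a₀) = (h : H ⧸ D.A) := hh
    have := hnb (D.π h • D.a₀) ((h * D.t : H) : H ⧸ D.A) (by rw [hh']; exact ⟨h, rfl, rfl⟩)
    exact this.symm
  have hall : ∀ g : H, ∀ h ∈ S, h * g ∈ S := by
    intro g
    have hg : g ∈ Subgroup.closure ((D.A : Set H) ∪ {D.t}) := by rw [D.gen]; exact Subgroup.mem_top g
    induction hg using Subgroup.closure_induction'' with
    | one => intro h hh; rwa [mul_one]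
    | mem g hg =>
      intro h hh
      rcases hg with hg | rfl
      · exact hA h hh g hg
      · exact ht h hh
    | inv_mem g hg =>
      intro h hh
      rcases hg with hg | rfl
      · exact hA h hh _ (inv_mem hg)
      · obtain ⟨k, hk, hk'⟩ := D.back
        have := hA _ (ht _ (hA h hh k hk)) _ (inv_mem hk')
        rwa [show h * k * D.t * (D.t * k * D.t)⁻¹ = h * D.t⁻¹ by group] at this
    | mul g g' _ _ ihg ihg' => intro h hh; rw [← mul_assoc]; exact ihg' _ (ihg h hh)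
  have h1S : (1 : H) ∈ S := by
    show σ _ = _
    rw [map_one, one_smul]; exact h0
  refine ⟨(injective_iff_map_eq_one _).2 fun h hh => D.inj h ?_ hh, fun g => ?_⟩
  · have := hall h 1 h1S
    rw [one_mul] at this
    have e : σ (D.π h • D.a₀) = (h : H ⧸ D.A) := this
    rw [hh, one_smul, h0] at e
    simpa using QuotientGroup.eq.1 e
  · obtain ⟨h', e'⟩ := QuotientGroup.mk_surjective (σ (g • D.a₀))
    have e : D.π h' • D.a₀ = g • D.a₀ := by rw [← p_mk, e', h4]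
    obtain ⟨x, hx, hxg⟩ := D.onto ((D.π h')⁻¹ * g) (by rw [mul_smul, ← e, inv_smul_smul])
    exact ⟨h' * x, by rw [map_mul, hxg, mul_inv_cancel_left]⟩

end CoverData

end Cfsg.Agent.Small.SUPres
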