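import Cfsg.Agent.Lib.Small.UCover.Graph
import Cfsg.Agent.Lib.Small.SUPres.Cover

/-!
Squares in the orthogonality graph of norm one vectors of a unitary space, and the resulting criterion for a
group to be the special unitary group.
-/

set_option autoImplicit false
set_option linter.unusedSectionVars false
set_option linter.style.haveILetI false

namespace Cfsg.Agent.Small.SUPres

open Matrix Module MulAction Cfsg.Agent.Small.Unitary Cfsg.Agent.Small.UCover

variable {F : Type*} [Field F] [Fintype F] [StarRing F] {n q : ℕ} {hstar : ∀ x : F, star x = x ^ q}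

/-- Orthogonality. -/
def Orth (a b : UVec n hstar) : Prop := herm a.1 b.1 = 0

theorem orth_symm {a b : UVec n hstar} (h : Orth a b) : Orth b a := herm_comm_zero h

theorem orth_smul (g : Cfsg.SU n F q) (a b : UVec n hstar) (h : Orth a b) : Orth (g • a) (g • b) := by
  show herm (g • a).1 (g • b).1 = 0
  rw [smul_val, smul_val, herm_act hstar]
  exact h

theorem on_four {a b c d : Fin n → F} (ha : herm a a = 1) (hb : herm b b = 1) (hc : herm c c = 1)
    (hd : herm d d = 1) (hab : herm a b = 0) (hac : herm a c = 0) (had : herm a d = 0) (hbc : herm b c = 0)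
    (hbd : herm b d = 0) (hcd : herm c d = 0) : ON ![a, b, c, d] := fun i j => by
  fin_cases i <;> fin_cases j <;>
    simp [ha, hb, hc, hd, hab, hac, had, hbc, hbd, hcd, herm_comm_zero hab, herm_comm_zero hac,
      herm_comm_zero had, herm_comm_zero hbc, herm_comm_zero hbd, herm_comm_zero hcd]

section

variable (hF : Fintype.card F = q ^ 2)
include hF

/-- The normalised second vector of a nondegenerate pair. -/
theorem exists_second {a b : UVec n hstar} (h : star (herm a.1 b.1) * herm a.1 b.1 ≠ 1) :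
    ∃ y : Fin n → F, herm y y = 1 ∧ herm a.1 y = 0 ∧ (∃ c d : F, b.1 = c • y + d • a.1) ∧
      ∀ z : Fin n → F, herm a.1 z = 0 → herm b.1 z = 0 → herm y z = 0 := by
  set d := herm a.1 b.1 with hd
  have hd' : herm b.1 a.1 = star d := by rw [hd, star_herm]
  have hyy : herm (b.1 - d • a.1) (b.1 - d • a.1) = 1 - star d * d := by
    rw [herm_sub_left, herm_sub_right, herm_sub_right, herm_smul_left, herm_smul_left, herm_smul_right,
      herm_smul_right, a.2, b.2, hd', ← hd]
    ring
  have hne0 : (1 : F) - star d * d ≠ 0 := sub_ne_zero.2 (Ne.symm h)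
  obtain ⟨s, hs0, hs⟩ := Hermitian.exists_norm hstar hF (inv_ne_zero hne0)
    (by rw [star_inv₀, ← hyy, star_herm])
  refine ⟨s • (b.1 - d • a.1), ?_, ?_, ⟨s⁻¹, d, ?_⟩, fun z h1 h2 => ?_⟩
  · rw [herm_smul_left, herm_smul_right, hyy, ← mul_assoc, hs, inv_mul_cancel₀ hne0]
  · rw [herm_smul_right, herm_sub_right, herm_smul_right, a.2, ← hd, mul_one, sub_self, mul_zero]
  · rw [smul_smul, inv_mul_cancel₀ hs0, one_smul, sub_add_cancel]
  · rw [herm_smul_left, herm_sub_left, herm_smul_left, h1, h2, mul_zero, sub_zero, mul_zero]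

end

section

variable {H : Type*} [Group H] (D : CoverData H (Cfsg.SU n F q) (UVec n hstar)) (hadj : D.adj = Orth)
  (htri : D.TriOK) (hF : Fintype.card F = q ^ 2) (hn : 5 ≤ n)
include hadj htri hF hn

theorem agree_good {a b v v' : UVec n hstar} (hav : Orth a v) (hvb : Orth v b) (hav' : Orth a v')
    (hvb' : Orth v' b) (hab : Good hstar a b) (hvv : Good hstar v v') : D.Agree a b v v' := by
  suffices h : ∃ x : UVec n hstar, Orth a x ∧ Orth x b ∧ Orth v x ∧ Orth x v' by
    obtain ⟨x, h1, h2, h3, h4⟩ := h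
    exact D.agree_of_apex htri (by rw [hadj]; exact h1) (by rw [hadj]; exact h2) (by rw [hadj]; exact h3)
      (by rw [hadj]; exact h4)
  rcases hvv with hvv | ⟨c, hc⟩
  swap
  · obtain ⟨x, ⟨h1, h2⟩, ⟨-, h3⟩, -⟩ := exists_via_three hstar hF hn (a := a) (b := v) (c := b) hav
    refine ⟨x, orth_symm h1, h3, orth_symm h2, ?_⟩
    show herm x.1 v'.1 = 0
    rw [hc, herm_smul_right, h2, mul_zero]
  rcases hab with hab | ⟨c, hc⟩
  swap
  · obtain ⟨x, ⟨h1, h2⟩, ⟨-, h3⟩, -⟩ := exists_via_three hstar hF hn (a := a) (b := v) (c := v') hav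
    refine ⟨x, orth_symm h1, ?_, orth_symm h2, h3⟩
    show herm x.1 b.1 = 0
    rw [hc, herm_smul_right, h1, mul_zero]
  obtain ⟨y, hy, hay, ⟨c, d, hb⟩, hyz⟩ := exists_second hF hab
  obtain ⟨z, hz, hvz, ⟨c', d', hv'⟩, hzz⟩ := exists_second hF hvv
  have hyv : herm y v.1 = 0 := hyz _ hav (orth_symm hvb)
  have hyv' : herm y v'.1 = 0 := hyz _ hav' (orth_symm hvb')
  have haz : herm a.1 z = 0 := herm_comm_zero (hzz _ (orth_symm hav) (orth_symm hav'))
  have hyz' : herm y z = 0 := herm_comm_zero (hzz _ (herm_comm_zero hyv) (herm_comm_zero hyv'))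
  obtain ⟨x, hx, hp⟩ := exists_unit_perp hstar hF
    (on_four a.2 hy v.2 hz hay hav haz hyv hyz' hvz) (by omega)
  have p0 : herm a.1 x = 0 := hp 0
  have p1 : herm y x = 0 := hp 1
  have p2 : herm v.1 x = 0 := hp 2
  have p3 : herm z x = 0 := hp 3
  refine ⟨⟨x, hx⟩, p0, ?_, p2, ?_⟩
  · show herm x b.1 = 0
    rw [hb, herm_add_right, herm_smul_right, herm_smul_right, herm_comm_zero p1, herm_comm_zero p0]
    ring
  · show herm x v'.1 = 0
    rw [hv', herm_add_right, herm_smul_right, herm_smul_right, herm_comm_zero p3, herm_comm_zero p2]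
    ring

theorem agree_half (hq : 3 ≤ q ∨ 7 ≤ n) {a b v v' : UVec n hstar} (hav : Orth a v) (hvb : Orth v b)
    (hav' : Orth a v') (hvb' : Orth v' b) (hvv : Good hstar v v') : D.Agree a b v v' := by
  refine D.agree_swap ?_
  have ha : Via v v' a := ⟨hav, hav'⟩
  have hb : Via v v' b := ⟨orth_symm hvb, orth_symm hvb'⟩
  induction linked hstar hF hn hq ha hb with
  | refl => exact D.agree_refl v v' a
  | @tail x y _ hs ih =>
    obtain ⟨hx, hy, hg⟩ := hs
    refine D.agree_trans (w := x) (by rw [hadj]; exact orth_symm hx.1) (by rw [hadj]; exact hx.2)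
      (ih (orth_symm hx.1) (orth_symm hx.2) hx) ?_
    exact D.agree_swap (agree_good D hadj htri hF hn hx.1 (orth_symm hy.1) hx.2 (orth_symm hy.2) hg hvv)

theorem agree_all (hq : 3 ≤ q ∨ 7 ≤ n) {a b v v' : UVec n hstar} (hav : Orth a v) (hvb : Orth v b)
    (hav' : Orth a v') (hvb' : Orth v' b) : D.Agree a b v v' := by
  have hv : Via a b v := ⟨orth_symm hav, hvb⟩
  have hv' : Via a b v' := ⟨orth_symm hav', hvb'⟩
  induction linked hstar hF hn hq hv hv' with
  | refl => exact D.agree_refl a b v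
  | @tail x y _ hs ih =>
    obtain ⟨hx, hy, hg⟩ := hs
    exact D.agree_trans (w := x) (by rw [hadj]; exact orth_symm hx.1) (by rw [hadj]; exact hx.2)
      (ih (orth_symm hx.1) hx.2 hx) (agree_half D hadj htri hF hn hq (orth_symm hx.1) hx.2 (orth_symm hy.1) hy.2 hg)

theorem bijective_of_squares
    (hquad : ∀ a b v v' : UVec n hstar, Orth a v → Orth v b → Orth a v' → Orth v' b → D.Agree a b v v') :
    Function.Bijective D.π := by
  refine D.bijective htri (fun a b v v' => by rw [hadj]; exact hquad a b v v') fun a b c h => ?_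
  rw [hadj] at h ⊢
  obtain ⟨x, ⟨h1, h2⟩, ⟨-, h3⟩, -⟩ := exists_via_three hstar hF hn (a := b) (b := c) (c := a) h
  exact Or.inl ⟨x, orth_symm h3, h1, h2⟩

end

/-- The data of a group generated by a vector stabiliser and an element along an edge. -/
noncomputable def coverData {H : Type*} [Group H] (π : H →* Cfsg.SU n F q) (hF : Fintype.card F = q ^ 2)
    (hn : 4 ≤ n) (a₀ : UVec n hstar) (A : Subgroup H) (t : H)
    (hinj : ∀ x ∈ A, π x = 1 → x = 1) (hmap : A.map π = fixS q {a₀.1}) (hedge : Orth a₀ (π t • a₀))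
    (hstab : ∀ g, act g a₀.1 = a₀.1 → act g (π t • a₀).1 = (π t • a₀).1 →
      ∃ x ∈ A, π x = g ∧ t⁻¹ * x * t ∈ A)
    (hback : ∃ k ∈ A, t * k * t ∈ A) (hgen : Subgroup.closure ((A : Set H) ∪ {t}) = ⊤) :
    CoverData H (Cfsg.SU n F q) (UVec n hstar) where
  π := π
  adj := Orth
  symm _ _ := orth_symm
  inv := orth_smul
  a₀ := a₀
  A := A
  t := t
  fix x hx := by
    have : π x ∈ fixS q {a₀.1} := hmap ▸ Subgroup.mem_map_of_mem π hx
    exact Subtype.ext (this a₀.1 rfl)
  inj := hinj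
  onto g hg := by
    have : g ∈ A.map π := hmap ▸ (mem_fixS.2 fun a ha => by
      rw [Set.mem_singleton_iff.1 ha]; exact congrArg Subtype.val hg)
    exact this
  edge := hedge
  tr_edge b hb := by
    obtain ⟨g, hg⟩ := exists_move hstar hF (on_two a₀.2 (π t • a₀).2 hedge) (on_two a₀.2 b.2 hb) (by omega)
    exact ⟨g, Subtype.ext (hg 0), Subtype.ext (hg 1)⟩
  stab₂ g h1 h2 := hstab g (congrArg Subtype.val h1) (congrArg Subtype.val h2)
  back := hback
  gen := hgen
  common a b := by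
    obtain ⟨x, hx, hp⟩ := exists_unit hstar hF (on_one a.2) (perpF ![a.1, b.1])
      (fun x hx i => by fin_cases i; exact (mem_perp_two.1 hx).1)
      (by have := finrank_perpF ![a.1, b.1]; omega)
    exact ⟨⟨x, hp⟩, (mem_perp_two.1 hx).1, herm_comm_zero (mem_perp_two.1 hx).2⟩

theorem triOK_coverData {H : Type*} [Group H] (D : CoverData H (Cfsg.SU n F q) (UVec n hstar))
    (hadj : D.adj = Orth) (hF : Fintype.card F = q ^ 2) (hn : 4 ≤ n)
    (hone : ∃ Q, D.E (D.t : H ⧸ D.A) Q ∧ D.E Q ((1 : H) : H ⧸ D.A)) : D.TriOK := by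
  refine D.triOK_of_orbit (fun c c' h1 h2 h3 h4 => ?_) hone
  have he : Orth D.a₀ (D.π D.t • D.a₀) := by rw [← hadj]; exact D.edge
  rw [hadj] at h1 h2 h3 h4
  obtain ⟨g, hg⟩ := exists_move hstar hF (on_three D.a₀.2 (D.π D.t • D.a₀).2 c.2 he h1 h2)
    (on_three D.a₀.2 (D.π D.t • D.a₀).2 c'.2 he h3 h4) (by omega)
  exact ⟨g, Subtype.ext (hg 0), Subtype.ext (hg 1), Subtype.ext (hg 2)⟩

end Cfsg.Agent.Small.SUPres
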