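import Cfsg.Agent.Lib.Small.UCover.Graph

/-!
Small isometry groups embedded along a frame of columns, coordinate subgroups and permutation matrices in the
special unitary groups.
-/

set_option autoImplicit false
set_option linter.unusedSectionVars false

namespace Cfsg.Agent.Small.SUPres

open Matrix Cfsg.Agent.Small.Unitary Cfsg.Agent.Small.UCover

variable {F : Type*} [Field F] [Fintype F] [StarRing F] {n q : ℕ} {m : Type*} [Fintype m] [DecidableEq m]

/-- The isometries of determinant one of a form. -/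
def formGrp (J : Matrix m m F) : Subgroup (Matrix.SpecialLinearGroup m F) where
  carrier := {M | M.1ᴴ * J * M.1 = J}
  one_mem' := by simp
  mul_mem' := fun {M N} hM hN => by
    show (M.1 * N.1)ᴴ * J * (M.1 * N.1) = J
    rw [Matrix.conjTranspose_mul, show N.1ᴴ * M.1ᴴ * J * (M.1 * N.1) = N.1ᴴ * (M.1ᴴ * J * M.1) * N.1 by
      simp only [Matrix.mul_assoc], hM, hN]
  inv_mem' := fun {M} hM => by
    have e : M.1 * (M⁻¹).1 = 1 := congrArg Subtype.val (mul_inv_cancel M)
    show (M⁻¹).1ᴴ * J * (M⁻¹).1 = J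
    conv_lhs => rw [← hM]
    rw [show (M⁻¹).1ᴴ * (M.1ᴴ * J * M.1) * (M⁻¹).1 = (M.1 * (M⁻¹).1)ᴴ * J * (M.1 * (M⁻¹).1) by
      simp only [Matrix.conjTranspose_mul, Matrix.mul_assoc], e]
    simp

variable (hstar : ∀ x : F, star x = x ^ q) (U : Matrix (Fin n) m F) (J : Matrix m m F) (hJ : Jᴴ = J)
  (hJJ : J * J = 1) (hU : Uᴴ * U = J)

/-- The embedding along a frame. -/
noncomputable def frameHom : formGrp J →* Cfsg.SU n F q where
  toFun M := emb hstar U J hJ hJJ hU M.1.1 M.2 M.1.2
  map_one' := eq_of_act fun x => by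
    show embed U (J * Uᴴ) (1 : Matrix m m F) *ᵥ x = _
    simp [embed, act_one]
  map_mul' M N := eq_of_act fun x => by
    show embed U (J * Uᴴ) (M.1.1 * N.1.1) *ᵥ x = _
    rw [act_mul, ← embed_mul U _ (by rw [Matrix.mul_assoc, hU, hJJ]), ← Matrix.mulVec_mulVec]
    rfl

theorem act_frameHom_mem (M : formGrp J) (v : m → F) :
    act (frameHom hstar U J hJ hJJ hU M) (U *ᵥ v) = U *ᵥ (M.1.1 *ᵥ v) := by
  show embed U (J * Uᴴ) M.1.1 *ᵥ (U *ᵥ v) = _
  rw [embed, Matrix.add_mulVec, Matrix.one_mulVec, Matrix.mulVec_mulVec,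
    show U * (M.1.1 - 1) * (J * Uᴴ) * U = U * (M.1.1 - 1) * (J * (Uᴴ * U)) by simp only [Matrix.mul_assoc],
    hU, hJJ, Matrix.mul_one, Matrix.mul_sub, Matrix.mul_one, Matrix.sub_mulVec, ← Matrix.mulVec_mulVec]
  abel

theorem act_frameHom_perp (M : formGrp J) {x : Fin n → F} (hx : Uᴴ *ᵥ x = 0) :
    act (frameHom hstar U J hJ hJJ hU M) x = x := by
  show embed U (J * Uᴴ) M.1.1 *ᵥ x = x
  rw [embed, Matrix.add_mulVec, Matrix.one_mulVec, ← Matrix.mul_assoc, ← Matrix.mulVec_mulVec, hx,
    Matrix.mulVec_zero, add_zero]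

theorem frameHom_injective : Function.Injective (frameHom hstar U J hJ hJJ hU) := by
  refine (injective_iff_map_eq_one _).2 fun M hM => Subtype.ext (Subtype.ext ?_)
  refine ext_mulVec fun v => ?_
  have h := act_frameHom_mem hstar U J hJ hJJ hU M v
  rw [hM, act_one] at h
  have h' := congrArg ((J * Uᴴ) *ᵥ ·) h
  simp only [Matrix.mulVec_mulVec, Matrix.mul_assoc, hU, hJJ, ← Matrix.mul_assoc Uᴴ] at h'
  rw [← Matrix.mul_assoc J J, hJJ, Matrix.one_mul] at h'
  exact h'.symm

theorem mem_range_of_full (hfull : U * (J * Uᴴ) = 1) (g : Cfsg.SU n F q) :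
    g ∈ (frameHom hstar U J hJ hJJ hU).range := by
  classical
  set V := J * Uᴴ with hV
  have hVU : V * U = 1 := by rw [hV, Matrix.mul_assoc, hU, hJJ]
  set M := V * g.1.1 * U with hM
  have hUM : U * M = g.1.1 * U := by rw [hM, ← Matrix.mul_assoc, ← Matrix.mul_assoc, hfull, Matrix.one_mul]
  have hemb : embed U V M = g.1.1 := by
    rw [embed, Matrix.mul_sub, hUM, Matrix.mul_one, Matrix.sub_mul, Matrix.mul_assoc, hfull, Matrix.mul_one,
      add_sub_cancel]
  have hd : M.det = 1 := by
    have := embed_det U V hVU M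
    rw [hemb] at this
    rw [← this]; exact g.1.2
  have hf : Mᴴ * J * M = J := by
    conv_lhs => rw [← hU]
    rw [show Mᴴ * (Uᴴ * U) * M = (U * M)ᴴ * (U * M) by simp only [Matrix.conjTranspose_mul, Matrix.mul_assoc],
      hUM, Matrix.conjTranspose_mul, Matrix.mul_assoc, ← Matrix.mul_assoc g.1.1ᴴ,
      conjTranspose_mul_self hstar g, Matrix.one_mul, hU]
  exact ⟨⟨⟨M, hd⟩, hf⟩, Subtype.ext (Subtype.ext hemb)⟩

/-! ### Coordinate subgroups -/

variable (n q) in
/-- The elements fixing the coordinate vectors from `k` on. -/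
def Sk (k : ℕ) : Subgroup (Cfsg.SU n F q) :=
  fixS q {x | ∃ i : Fin n, k ≤ (i : ℕ) ∧ x = Pi.single i (1 : F)}

theorem mem_Sk {k : ℕ} {g : Cfsg.SU n F q} :
    g ∈ Sk n q k ↔ ∀ i : Fin n, k ≤ (i : ℕ) → act g (Pi.single i 1) = Pi.single i 1 :=
  ⟨fun h i hi => h _ ⟨i, hi, rfl⟩, fun h _ ⟨i, hi, e⟩ => by rw [e]; exact h i hi⟩

theorem Sk_mono {k l : ℕ} (h : k ≤ l) : Sk (F := F) n q k ≤ Sk n q l := fun _ hg =>
  mem_Sk.2 fun i hi => mem_Sk.1 hg i (h.trans hi)

theorem Sk_top {k : ℕ} (h : n ≤ k) : Sk (F := F) n q k = ⊤ :=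
  eq_top_iff.2 fun _ _ => mem_Sk.2 fun i hi => absurd hi (by have := i.isLt; omega)

variable (n) in
/-- The inclusion of the first coordinates. -/
def incl (k : ℕ) : Matrix (Fin n) (Fin k) F := Matrix.of fun i a => if (i : ℕ) = (a : ℕ) then 1 else 0

theorem incl_mulVec_single {k : ℕ} (hk : k ≤ n) (a : Fin k) :
    incl n k *ᵥ Pi.single a (1 : F) = Pi.single (Fin.castLE hk a) 1 := by
  funext i
  rw [Matrix.mulVec_single_one]
  simp [incl, Pi.single_apply, Fin.ext_iff]

theorem incl_conjTranspose_single {k : ℕ} {i : Fin n} (hi : k ≤ (i : ℕ)) :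
    (incl n k)ᴴ *ᵥ Pi.single i (1 : F) = 0 := by
  funext a
  rw [Matrix.mulVec_single_one]
  have : (i : ℕ) ≠ (a : ℕ) := by have := a.isLt; omega
  simp [incl, this]

theorem incl_form {k : ℕ} (hk : k ≤ n) : (incl (F := F) n k)ᴴ * incl (F := F) n k = (1 : Matrix (Fin k) (Fin k) F) := by
  ext a b
  rw [Matrix.mul_apply, Finset.sum_eq_single (Fin.castLE hk a)]
  · simp [incl, Matrix.one_apply, Fin.ext_iff]
  · intro i _ hi
    have : (i : ℕ) ≠ (a : ℕ) := fun e => hi (Fin.ext e)
    simp [incl, this]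
  · simp

/-- The embedding of a smaller special unitary group. -/
noncomputable def inclHom {k : ℕ} (hk : k ≤ n) : Cfsg.SU k F q →* Cfsg.SU n F q :=
  (frameHom hstar (incl n k) 1 Matrix.conjTranspose_one (Matrix.one_mul 1) (incl_form hk)).comp
    { toFun := fun g => ⟨g.1, by
        show g.1.1ᴴ * 1 * g.1.1 = 1
        rw [Matrix.mul_one]; exact conjTranspose_mul_self hstar g⟩
      map_one' := rfl
      map_mul' := fun _ _ => rfl }

theorem act_inclHom {k : ℕ} (hk : k ≤ n) (g : Cfsg.SU k F q) (v : Fin k → F) :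
    act (inclHom hstar hk g) (incl n k *ᵥ v) = incl n k *ᵥ act g v :=
  act_frameHom_mem hstar (incl n k) 1 Matrix.conjTranspose_one (Matrix.one_mul 1) (incl_form hk) _ v

theorem inclHom_injective {k : ℕ} (hk : k ≤ n) : Function.Injective (inclHom (q := q) hstar hk) := fun g h e => by
  have := congrArg Subtype.val (frameHom_injective hstar (incl n k) 1 Matrix.conjTranspose_one (Matrix.one_mul 1) (incl_form hk) e)
  exact Subtype.ext this

theorem range_inclHom {k : ℕ} (hk : k ≤ n) : (inclHom (q := q) hstar hk).range = Sk n q k := by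
  classical
  ext g
  constructor
  · rintro ⟨h, rfl⟩
    exact mem_Sk.2 fun i hi =>
      act_frameHom_perp hstar (incl n k) 1 Matrix.conjTranspose_one (Matrix.one_mul 1) (incl_form hk) _ (incl_conjTranspose_single hi)
  · intro hg
    rw [mem_Sk] at hg
    have hrow : ∀ (j : Fin n), k ≤ (j : ℕ) → ∀ x, act g x j = x j := fun j hj x => by
      have := herm_act hstar g (Pi.single j 1) x
      rwa [hg j hj, herm_single_left, herm_single_left, star_one, one_mul, one_mul] at this
    set U := incl (F := F) n k with hUdef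
    have hform : Uᴴ * U = 1 := incl_form hk
    have hUU : ∀ x : Fin n → F, (∀ j : Fin n, k ≤ (j : ℕ) → x j = 0) → U *ᵥ (Uᴴ *ᵥ x) = x := by
      intro x hx
      funext i
      by_cases hi : (i : ℕ) < k
      · rw [Matrix.mulVec, dotProduct, Finset.sum_eq_single (⟨i, hi⟩ : Fin k)]
        · rw [Matrix.mulVec, dotProduct, Finset.sum_eq_single i]
          · simp [hUdef, incl]
          · intro j _ hj
            have : (j : ℕ) ≠ i := fun e => hj (Fin.ext e)
            simp [hUdef, incl, this]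
          · simp
        · intro a _ ha
          have : (i : ℕ) ≠ a := fun e => ha (Fin.ext e.symm)
          simp [hUdef, incl, this]
        · simp
      · rw [hx i (by omega), Matrix.mulVec, dotProduct]
        exact Finset.sum_eq_zero fun a _ => by
          have : (i : ℕ) ≠ a := by have := a.isLt; omega
          simp [hUdef, incl, this]
    set M := Uᴴ * g.1.1 * U with hM
    have hUM : U * M = g.1.1 * U := by
      refine Matrix.ext_of_mulVec_single fun a => ?_
      generalize (Pi.single a (1 : F) : Fin k → F) = v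
      rw [hM, Matrix.mul_assoc Uᴴ, ← Matrix.mulVec_mulVec, ← Matrix.mulVec_mulVec]
      refine hUU _ fun j hj => ?_
      rw [← Matrix.mulVec_mulVec]
      refine (hrow j hj _).trans ?_
      rw [Matrix.mulVec, dotProduct]
      refine Finset.sum_eq_zero fun a _ => ?_
      have : (j : ℕ) ≠ a := by have := a.isLt; omega
      simp [hUdef, incl, this]
    have hu : Mᴴ * M = 1 := by
      rw [show Mᴴ * M = Mᴴ * (Uᴴ * U) * M by rw [hform, Matrix.mul_one],
        show Mᴴ * (Uᴴ * U) * M = (U * M)ᴴ * (U * M) by simp only [Matrix.conjTranspose_mul, Matrix.mul_assoc],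
        hUM, Matrix.conjTranspose_mul, Matrix.mul_assoc, ← Matrix.mul_assoc g.1.1ᴴ,
        conjTranspose_mul_self hstar g, Matrix.one_mul, hform]
    have hemb : embed U ((1 : Matrix (Fin k) (Fin k) F) * Uᴴ) M = g.1.1 := by
      rw [Matrix.one_mul]
      ext i j
      have key : embed U Uᴴ M *ᵥ Pi.single j 1 = g.1.1 *ᵥ Pi.single j 1 := by
        by_cases hj : (j : ℕ) < k
        · have e := incl_mulVec_single (F := F) hk (⟨j, hj⟩ : Fin k)
          rw [show Fin.castLE hk (⟨j, hj⟩ : Fin k) = j from Fin.ext rfl] at e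
          rw [← e, Matrix.mulVec_mulVec, Matrix.mulVec_mulVec, embed, Matrix.add_mul, Matrix.one_mul, ← hUdef,
            Matrix.mul_assoc, hform, Matrix.mul_one, Matrix.mul_sub, hUM, Matrix.mul_one]
          simp
        · rw [embed, Matrix.add_mulVec, Matrix.one_mulVec, ← Matrix.mulVec_mulVec,
            incl_conjTranspose_single (not_lt.1 hj), Matrix.mulVec_zero, add_zero]
          exact (hg j (not_lt.1 hj)).symm
      have := congrFun key i
      simpa [Matrix.mulVec_single_one] using this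
    have hd : M.det = 1 := by
      have := embed_det U ((1 : Matrix (Fin k) (Fin k) F) * Uᴴ) (by rw [Matrix.one_mul]; exact hform) M
      rw [hemb] at this
      rw [← this]; exact g.1.2
    exact ⟨mkSU hstar M hu hd, Subtype.ext (Subtype.ext hemb)⟩

/-! ### Permutations -/

/-- The permutation matrices of even permutations. -/
noncomputable def permHom : alternatingGroup (Fin n) →* Cfsg.SU n F q where
  toFun σ := mono hstar (σ⁻¹ : alternatingGroup (Fin n)).1 1
  map_one' := eq_of_act fun x => by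
    rw [act_mono ⟨by simp, by simp⟩, act_one]
    funext i; simp
  map_mul' σ τ := by
    have ok : ∀ σ : alternatingGroup (Fin n), MOk (F := F) σ.1 1 := fun σ =>
      ⟨by simp, by simp [Equiv.Perm.mem_alternatingGroup.1 σ.2]⟩
    refine eq_of_act fun x => ?_
    rw [act_mul, act_mono (ok _), act_mono (ok _), act_mono (ok _)]
    funext i
    simp

theorem act_permHom (σ : alternatingGroup (Fin n)) (i : Fin n) :
    act (permHom (q := q) hstar σ) (Pi.single i (1 : F)) = Pi.single (σ.1 i) 1 := by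
  show act (mono hstar (σ⁻¹ : alternatingGroup (Fin n)).1 1) _ = _
  rw [act_mono ⟨by simp, by simp [Equiv.Perm.mem_alternatingGroup.1 σ.2]⟩]
  funext j
  simp [Pi.single_apply, Equiv.Perm.inv_def, Equiv.symm_apply_eq]

end Cfsg.Agent.Small.SUPres
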