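import Cfsg.Agent.Lib.Small.SUPres.Graph
import Cfsg.Agent.Lib.Small.SUPres.Embed
import Cfsg.Agent.Lib.Small.SUPres.Two.Squares

/-!
A small special unitary group glued to an alternating group generates the large special unitary group freely
subject to a few relations.
-/

set_option autoImplicit false
set_option linter.unusedSectionVars false

namespace Cfsg.Agent.Small.SUPres

open Matrix Equiv Cfsg.Agent.Small.Unitary Cfsg.Agent.Small.UCover

variable {F : Type*} [Field F] [Fintype F] [StarRing F] {q n : ℕ}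

variable (n) in
/-- The even permutations fixing the points from `k` on. -/
def lowPerm (k : ℕ) : Subgroup (alternatingGroup (Fin n)) where
  carrier := {σ | ∀ i : Fin n, k ≤ (i : ℕ) → σ.1 i = i}
  one_mem' := fun _ _ => rfl
  mul_mem' := fun {σ τ} hσ hτ i hi => by
    show σ.1 (τ.1 i) = i
    rw [hτ i hi, hσ i hi]
  inv_mem' := fun {σ} hσ i hi => by
    show σ.1⁻¹ i = i
    rw [Equiv.Perm.inv_eq_iff_eq]; exact (hσ i hi).symm

theorem mem_lowPerm {k : ℕ} {σ : alternatingGroup (Fin n)} :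
    σ ∈ lowPerm n k ↔ ∀ i : Fin n, k ≤ (i : ℕ) → σ.1 i = i := Iff.rfl

theorem lowPerm_mono {k l : ℕ} (h : k ≤ l) : lowPerm n k ≤ lowPerm n l := fun _ hσ i hi => hσ i (h.trans hi)

theorem incl_mulVec_val {k : ℕ} (f : ℕ → F) (hf : ∀ i, k ≤ i → f i = 0) :
    incl n k *ᵥ (fun a : Fin k => f a) = fun i : Fin n => f i := by
  funext i
  rw [Matrix.mulVec, dotProduct]
  by_cases hi : (i : ℕ) < k
  · rw [Finset.sum_eq_single (⟨i, hi⟩ : Fin k)]
    · simp [incl]
    · intro b _ hb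
      have : (i : ℕ) ≠ b := fun e => hb (Fin.ext e.symm)
      simp [incl, this]
    · simp
  · rw [hf i (not_lt.1 hi)]
    refine Finset.sum_eq_zero fun b _ => ?_
    have : (i : ℕ) ≠ b := by have := b.isLt; omega
    simp [incl, this]

/-- An even product of two transpositions. -/
def dswap (a b c d : Fin n) (hab : a ≠ b) (hcd : c ≠ d) : alternatingGroup (Fin n) :=
  ⟨swap a b * swap c d, by
    rw [Equiv.Perm.mem_alternatingGroup, map_mul, Equiv.Perm.sign_swap hab, Equiv.Perm.sign_swap hcd]; decide⟩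

theorem dswap_low {a b c d : Fin n} (hab : a ≠ b) (hcd : c ≠ d) {k : ℕ} (ha : (a : ℕ) < k) (hb : (b : ℕ) < k)
    (hc : (c : ℕ) < k) (hd : (d : ℕ) < k) : dswap a b c d hab hcd ∈ lowPerm n k := fun i hi => by
  show swap a b (swap c d i) = i
  rw [Equiv.swap_apply_of_ne_of_ne (a := c) (b := d) (fun e => by subst e; omega) (fun e => by subst e; omega),
    Equiv.swap_apply_of_ne_of_ne (fun e => by subst e; omega) (fun e => by subst e; omega)]

theorem dswap_apply_right {a b c d : Fin n} (hab : a ≠ b) (hcd : c ≠ d) (h1 : c ≠ a) (h2 : c ≠ b) :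
    (dswap a b c d hab hcd).1 d = c := by
  show swap a b (swap c d d) = c
  rw [Equiv.swap_apply_right, Equiv.swap_apply_of_ne_of_ne h1 h2]

theorem dswap_apply_out {a b c d i : Fin n} {hab : a ≠ b} {hcd : c ≠ d} (h1 : i ≠ a) (h2 : i ≠ b) (h3 : i ≠ c)
    (h4 : i ≠ d) : (dswap a b c d hab hcd).1 i = i := by
  show swap a b (swap c d i) = i
  rw [Equiv.swap_apply_of_ne_of_ne (a := c) (b := d) h3 h4, Equiv.swap_apply_of_ne_of_ne h1 h2]

theorem dswap_mul_self {a b c d : Fin n} (hab : a ≠ b) (hcd : c ≠ d) (hac : a ≠ c) (had : a ≠ d) (hbc : b ≠ c)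
    (hbd : b ≠ d) : dswap a b c d hab hcd * dswap a b c d hab hcd = 1 := by
  refine Subtype.ext ?_
  show swap a b * swap c d * (swap a b * swap c d) = 1
  have hd : Equiv.Perm.Disjoint (swap a b) (swap c d) := fun i => by
    by_cases h1 : i = a ∨ i = b
    · right
      rcases h1 with rfl | rfl
      · exact Equiv.swap_apply_of_ne_of_ne hac had
      · exact Equiv.swap_apply_of_ne_of_ne hbc hbd
    · left
      push Not at h1
      exact Equiv.swap_apply_of_ne_of_ne h1.1 h1.2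
  rw [mul_assoc, ← mul_assoc (swap c d), ← hd.commute.eq, mul_assoc, Equiv.swap_mul_self, mul_one,
    Equiv.swap_mul_self]

variable {H : Type*} [Group H] (hstar : ∀ x : F, star x = x ^ q)

variable (F H n) in
/-- A small group and a group of permutations in a group over the special unitary group. -/
structure Glue (hstar : ∀ x : F, star x = x ^ q) (k₀ : ℕ) where
  π : H →* Cfsg.SU n F q
  μ : alternatingGroup (Fin n) →* H
  B : Subgroup H
  four : 4 ≤ k₀
  le : k₀ ≤ n
  inj : ∀ x ∈ B, π x = 1 → x = 1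
  map_B : B.map π = Sk n q k₀
  perm : ∀ σ, π (μ σ) = permHom hstar σ
  outer : ∀ σ : alternatingGroup (Fin n), (∀ i : Fin n, (i : ℕ) < k₀ → σ.1 i = i) → ∀ x ∈ B, Commute (μ σ) x
  inner : ∀ σ ∈ lowPerm n k₀, μ σ ∈ B
  shift : ∀ (a b c d : Fin n) (hab : a ≠ b) (hcd : c ≠ d), (a : ℕ) = 0 → (b : ℕ) = 1 → (c : ℕ) + 1 = k₀ →
    (d : ℕ) = k₀ → ∀ x ∈ B, act (π x) (Pi.single c (1 : F)) = Pi.single c 1 →
      μ (dswap a b c d hab hcd) * x * (μ (dswap a b c d hab hcd))⁻¹ ∈ B
  odd : ∀ (a b c d : Fin n) (hab : a ≠ b) (hcd : c ≠ d), (a : ℕ) = 0 → (b : ℕ) = 1 → (c : ℕ) = k₀ →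
    (d : ℕ) = k₀ + 1 → ∀ x ∈ B, μ (dswap a b c d hab hcd) * x * (μ (dswap a b c d hab hcd))⁻¹ ∈ B

namespace Glue

variable {hstar : ∀ x : F, star x = x ^ q} {k₀ : ℕ} (D : Glue F n H hstar k₀)

/-- The subgroup of level `k`. -/
def Hk (k : ℕ) : Subgroup H := D.B ⊔ (lowPerm n k).map D.μ

theorem Hk_mono {k l : ℕ} (h : k ≤ l) : D.Hk k ≤ D.Hk l := sup_le_sup le_rfl (Subgroup.map_mono (lowPerm_mono h))

theorem μ_mem {k : ℕ} {σ : alternatingGroup (Fin n)} (h : σ ∈ lowPerm n k) : D.μ σ ∈ D.Hk k :=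
  Subgroup.mem_sup_right (Subgroup.mem_map_of_mem _ h)

theorem Hk_base : D.Hk k₀ = D.B :=
  le_antisymm (sup_le le_rfl (Subgroup.map_le_iff_le_comap.2 fun σ hσ => D.inner σ hσ)) le_sup_left

theorem map_Hk_le {k : ℕ} (hk : k₀ ≤ k) : (D.Hk k).map D.π ≤ Sk n q k := by
  rw [Hk, Subgroup.map_sup, D.map_B]
  refine sup_le (Sk_mono hk) ?_
  rintro _ ⟨_, ⟨σ, hσ, rfl⟩, rfl⟩
  rw [D.perm]
  exact mem_Sk.2 fun i hi => by rw [act_permHom, hσ i hi]

/-- The statement at level `k`. -/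
def Good (k : ℕ) : Prop := (∀ x ∈ D.Hk k, D.π x = 1 → x = 1) ∧ (D.Hk k).map D.π = Sk n q k

/-- The relations along the exceptional squares at level six. -/
def SqRel : Prop :=
  ∀ (a b c d : Fin n) (hab : a ≠ b) (hcd : c ≠ d), (a : ℕ) = 0 → (b : ℕ) = 1 → (c : ℕ) = 4 → (d : ℕ) = 5 →
    ∀ l : F, star l * l = 1 → ∃ x y₁ y₂ z : H, x ∈ D.Hk 5 ∧ y₁ ∈ D.Hk 5 ∧ y₂ ∈ D.Hk 5 ∧ z ∈ D.Hk 5 ∧
      D.μ (dswap a b c d hab hcd) * x * D.μ (dswap a b c d hab hcd) * z =
        y₁ * D.μ (dswap a b c d hab hcd) * y₂ * D.μ (dswap a b c d hab hcd) ∧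
      act (D.π (D.μ (dswap a b c d hab hcd) * x * D.μ (dswap a b c d hab hcd))) (Pi.single d 1) =
        (fun i : Fin n => repB i) ∧
      act (D.π (y₁ * D.μ (dswap a b c d hab hcd))) (Pi.single d 1) = fun i : Fin n => repV l i

theorem conj_low {k : ℕ} (hk : k₀ ≤ k) (hkn : k + 1 ≤ n) {a b c d : Fin n} (hab : a ≠ b) (hcd : c ≠ d)
    (ha : (a : ℕ) = 0) (hb : (b : ℕ) = 1) (hc : (c : ℕ) + 1 = k) (hd : (d : ℕ) = k)
    (hIH : k₀ < k → D.Good (k - 1)) (g : Cfsg.SU n F q) (hg : g ∈ Sk n q k) (hgc : act g (Pi.single c 1) = Pi.single c 1) :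
    ∃ x ∈ D.Hk k, D.π x = g ∧ (D.μ (dswap a b c d hab hcd))⁻¹ * x * D.μ (dswap a b c d hab hcd) ∈ D.Hk k := by
  have h4 := D.four
  set τ := dswap a b c d hab hcd with hτ
  have hinv : (D.μ τ)⁻¹ = D.μ τ := by
    rw [← map_inv]
    congr 1
    exact inv_eq_of_mul_eq_one_right (dswap_mul_self hab hcd (by intro e; subst e; omega) (by intro e; subst e; omega)
      (by intro e; subst e; omega) (by intro e; subst e; omega))
  rcases eq_or_lt_of_le hk with rfl | hlt
  · rw [← D.map_B] at hg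
    obtain ⟨x, hx, rfl⟩ := hg
    refine ⟨x, Subgroup.mem_sup_left hx, rfl, Subgroup.mem_sup_left ?_⟩
    have := D.shift a b c d hab hcd ha hb hc hd x hx hgc
    rw [← hτ, hinv] at this
    rw [hinv]; exact this
  · have hg' : g ∈ Sk n q (k - 1) := mem_Sk.2 fun i hi => by
      rcases eq_or_lt_of_le hi with e | h
      · rw [show i = c from Fin.ext (by omega)]; exact hgc
      · exact mem_Sk.1 hg i (by omega)
    rw [← (hIH hlt).2] at hg'
    obtain ⟨x, hx, rfl⟩ := hg'
    refine ⟨x, D.Hk_mono (by omega) hx, rfl, ?_⟩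
    have hle : D.Hk (k - 1) ≤ (D.Hk k).comap (MulAut.conj (D.μ τ)).toMonoidHom := by
      refine sup_le (fun y hy => ?_) (Subgroup.map_le_iff_le_comap.2 fun σ hσ => ?_)
      · show D.μ τ * y * (D.μ τ)⁻¹ ∈ D.Hk k
        let k0 : Fin n := ⟨k₀, by omega⟩
        let k1 : Fin n := ⟨k₀ + 1, by omega⟩
        have h01 : k0 ≠ k1 := fun e => by simpa [k0, k1] using congrArg Fin.val e
        set ρ := dswap k0 k1 c d h01 hcd with hρ
        have hτe : τ = dswap a b k0 k1 hab h01 * ρ := Subtype.ext (by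
          show swap a b * swap c d = swap a b * swap k0 k1 * (swap k0 k1 * swap c d)
          rw [mul_assoc, ← mul_assoc (swap k0 k1), Equiv.swap_mul_self, one_mul])
        have hcomm : Commute (D.μ ρ) y := D.outer ρ (fun i hi => by
          show swap k0 k1 (swap c d i) = i
          rw [Equiv.swap_apply_of_ne_of_ne (a := c) (b := d) (fun e => by subst e; omega) (fun e => by subst e; omega),
            Equiv.swap_apply_of_ne_of_ne (fun e => by subst e; simp [k0] at hi)
              (fun e => by subst e; simp [k1] at hi)]) y hy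
        have := D.odd a b k0 k1 hab h01 ha hb rfl rfl y hy
        refine Subgroup.mem_sup_left ?_
        rw [hτe, map_mul, _root_.mul_inv_rev, show D.μ (dswap a b k0 k1 hab h01) * D.μ ρ * y *
          ((D.μ ρ)⁻¹ * (D.μ (dswap a b k0 k1 hab h01))⁻¹) = D.μ (dswap a b k0 k1 hab h01) *
          (D.μ ρ * y * (D.μ ρ)⁻¹) * (D.μ (dswap a b k0 k1 hab h01))⁻¹ by group,
          hcomm.eq, mul_inv_cancel_right]
        exact this
      · show D.μ τ * D.μ σ * (D.μ τ)⁻¹ ∈ D.Hk k
        rw [← map_inv, ← map_mul, ← map_mul]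
        refine D.μ_mem fun i hi => ?_
        show τ.1 (σ.1 (τ.1⁻¹ i)) = i
        have hge : k - 1 ≤ ((τ.1⁻¹ i : Fin n) : ℕ) := by
          show k - 1 ≤ (((swap a b * swap c d)⁻¹ i : Fin n) : ℕ)
          rw [_root_.mul_inv_rev, Equiv.swap_inv, Equiv.swap_inv, Equiv.Perm.mul_apply,
            Equiv.swap_apply_of_ne_of_ne (a := a) (b := b) (fun e => by subst e; omega) (fun e => by subst e; omega)]
          by_cases hid : i = d
          · subst hid; rw [Equiv.swap_apply_right]; omega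
          · rw [Equiv.swap_apply_of_ne_of_ne (fun e => by subst e; omega) hid]; omega
        rw [hσ _ hge]
        exact Equiv.apply_symm_apply τ.1 i
    have := hle hx
    rw [hinv]
    change D.μ τ * x * (D.μ τ)⁻¹ ∈ D.Hk k at this
    rwa [hinv] at this

theorem Hk_succ {k : ℕ} (hk : k₀ ≤ k) {a b c d : Fin n} (hab : a ≠ b) (hcd : c ≠ d)
    (ha : (a : ℕ) = 0) (hb : (b : ℕ) = 1) (hc : (c : ℕ) + 1 = k) (hd : (d : ℕ) = k) :
    D.Hk (k + 1) ≤ D.Hk k ⊔ Subgroup.closure {D.μ (dswap a b c d hab hcd)} := by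
  have h4 := D.four
  set τ := dswap a b c d hab hcd with hτ
  have hkn : k < n := hd ▸ d.isLt
  have hτd : τ.1 d = c := dswap_apply_right hab hcd (by intro e; subst e; omega) (by intro e; subst e; omega)
  have hτl : τ ∈ lowPerm n (k + 1) := dswap_low hab hcd (by omega) (by omega) (by omega) (by omega)
  have hA : D.Hk k ≤ D.Hk k ⊔ Subgroup.closure {D.μ τ} := le_sup_left
  have ht : D.μ τ ∈ D.Hk k ⊔ Subgroup.closure {D.μ τ} :=
    Subgroup.mem_sup_right (Subgroup.subset_closure rfl)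
  refine sup_le (le_sup_left.trans hA) (Subgroup.map_le_iff_le_comap.2 fun σ hσ => ?_)
  by_cases hfix : σ.1 d = d
  · exact hA (D.μ_mem fun i hi => by
      rcases eq_or_lt_of_le hi with e' | hlt
      · rw [show i = d from Fin.ext (by omega)]; exact hfix
      · exact hσ i hlt)
  set j := σ.1 d with hj
  have hjk : (j : ℕ) < k := by
    by_contra hge
    rcases eq_or_lt_of_le (not_lt.1 hge) with e' | hlt
    · exact hfix (Fin.ext (by omega))
    · exact hfix (σ.1.injective (hσ j hlt))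
  obtain ⟨y, hy, hyc⟩ : ∃ y ∈ lowPerm n k, y.1 c = j := by
    by_cases hjc : j = c
    · exact ⟨1, one_mem _, hjc.symm⟩
    obtain ⟨l, m, hlm, hl, hm, hlc, hlj, hmc, hmj⟩ : ∃ l m : Fin n, l ≠ m ∧ (l : ℕ) < k ∧ (m : ℕ) < k ∧
        l ≠ c ∧ l ≠ j ∧ m ≠ c ∧ m ≠ j := by
      obtain ⟨l, m, hlm, hl, hm, hlj, hmj⟩ : ∃ l m : ℕ, l ≠ m ∧ l < 3 ∧ m < 3 ∧ l ≠ (j : ℕ) ∧ m ≠ (j : ℕ) := by
        rcases (show (j : ℕ) = 0 ∨ (j : ℕ) = 1 ∨ 2 ≤ (j : ℕ) by omega) with h | h | h
        · exact ⟨1, 2, by omega, by omega, by omega, by omega, by omega⟩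
        · exact ⟨0, 2, by omega, by omega, by omega, by omega, by omega⟩
        · exact ⟨0, 1, by omega, by omega, by omega, by omega, by omega⟩
      refine ⟨⟨l, by omega⟩, ⟨m, by omega⟩, ?_, ?_, ?_, ?_, ?_, ?_, ?_⟩ <;>
        simp only [ne_eq, Fin.ext_iff] <;> omega
    refine ⟨dswap l m c j hlm (Ne.symm hjc), dswap_low hlm _ hl hm (by omega) hjk, ?_⟩
    show swap l m (swap c j c) = j
    rw [Equiv.swap_apply_left, Equiv.swap_apply_of_ne_of_ne hlj.symm hmj.symm]
  have hrest : (y * τ)⁻¹ * σ ∈ lowPerm n k := fun i hi => by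
    have hyτl : y * τ ∈ lowPerm n (k + 1) := mul_mem (lowPerm_mono (by omega) hy) hτl
    rcases eq_or_lt_of_le hi with e' | hlt
    · rw [show i = d from Fin.ext (by omega)]
      show (y.1 * τ.1)⁻¹ (σ.1 d) = d
      rw [Equiv.Perm.inv_eq_iff_eq, Equiv.Perm.mul_apply, hτd, hyc]
    · exact (mul_mem (inv_mem hyτl) hσ) i hlt
  show D.μ σ ∈ D.Hk k ⊔ Subgroup.closure {D.μ τ}
  rw [show σ = y * τ * ((y * τ)⁻¹ * σ) by rw [mul_inv_cancel_left], map_mul, map_mul]
  exact mul_mem (mul_mem (hA (D.μ_mem hy)) ht) (hA (D.μ_mem hrest))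

theorem tri_low {k : ℕ} (hk : 4 ≤ k) {a b e c d : Fin n} (hab : a ≠ b) (hcd : c ≠ d) (hec : e ≠ c)
    (ha : (a : ℕ) = 0) (hb : (b : ℕ) = 1) (he : (e : ℕ) + 2 = k) (hc : (c : ℕ) + 1 = k) (hd : (d : ℕ) = k) :
    (dswap a b c d hab hcd * dswap a b e c hab hec * dswap a b c d hab hcd)⁻¹ *
      (dswap a b e c hab hec * dswap a b c d hab hcd) ∈ lowPerm n k := by
  set τ := dswap a b c d hab hcd with hτ
  set ξ := dswap a b e c hab hec with hξ
  clear_value τ ξ
  have hτd : τ.1 d = c := by rw [hτ]; exact dswap_apply_right hab hcd (by intro h; subst h; omega) (by intro h; subst h; omega)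
  have hξc : ξ.1 c = e := by rw [hξ]; exact dswap_apply_right hab hec (by intro h; subst h; omega) (by intro h; subst h; omega)
  have hτe : τ.1 e = e := by
    rw [hτ]
    exact dswap_apply_out (hab := hab) (hcd := hcd) (by intro h; subst h; omega)
      (by intro h; subst h; omega) (by intro h; subst h; omega) (by intro h; subst h; omega)
  have hτl : τ ∈ lowPerm n (k + 1) := by rw [hτ]; exact dswap_low hab hcd (by omega) (by omega) (by omega) (by omega)
  have hξl : ξ ∈ lowPerm n (k + 1) := by rw [hξ]; exact dswap_low hab hec (by omega) (by omega) (by omega) (by omega)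
  intro i hi
  rcases eq_or_lt_of_le hi with e' | hlt
  · rw [show i = d from Fin.ext (by omega)]
    show (τ.1 * ξ.1 * τ.1)⁻¹ ((ξ.1 * τ.1) d) = d
    rw [Equiv.Perm.inv_eq_iff_eq]
    simp only [Equiv.Perm.mul_apply, hτd, hξc, hτe]
  · exact (mul_mem (inv_mem (mul_mem (mul_mem hτl hξl) hτl)) (mul_mem hξl hτl)) i hlt

set_option maxHeartbeats 1000000 in
theorem step (hF : Fintype.card F = q ^ 2) {k : ℕ} (hk : k₀ ≤ k) (hkn : k + 1 ≤ n)
    (hq : (3 ≤ q ∨ 7 ≤ k + 1) ∨ (q = 2 ∧ (k + 1 = 5 ∨ (k + 1 = 6 ∧ D.SqRel))))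
    (hk_good : D.Good k) (hIH : k₀ < k → D.Good (k - 1)) : D.Good (k + 1) := by
  classical
  have h4 := D.four
  let a : Fin n := ⟨0, by omega⟩
  let b : Fin n := ⟨1, by omega⟩
  let e : Fin n := ⟨k - 2, by omega⟩
  let c : Fin n := ⟨k - 1, by omega⟩
  let d : Fin n := ⟨k, by omega⟩
  have hab : a ≠ b := fun h => by simpa [a, b] using congrArg Fin.val h
  have hcd : c ≠ d := fun h => by have := congrArg Fin.val h; simp [c, d] at this; omega
  have hec : e ≠ c := fun h => by have := congrArg Fin.val h; simp [e, c] at this; omega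
  set τ := dswap a b c d hab hcd with hτ
  set ξ := dswap a b e c hab hec with hξ
  have hτl : τ ∈ lowPerm n (k + 1) := dswap_low hab hcd (by simp [a]) (by simp [b] <;> omega) (by simp [c] <;> omega) (by simp [d])
  have hξl : ξ ∈ lowPerm n k := dswap_low hab hec (by simp [a]; omega) (by simp [b]; omega) (by simp [e]; omega) (by simp [c]; omega)
  let ι := inclHom (F := F) (q := q) hstar hkn
  have hιr : ι.range = Sk n q (k + 1) := range_inclHom hstar hkn
  let H' := ↥(D.Hk (k + 1))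
  let ρ : H' →* ↥ι.range := (D.π.comp (D.Hk (k + 1)).subtype).codRestrict _ fun x => by
    rw [hιr]; exact D.map_Hk_le (by omega) (Subgroup.mem_map_of_mem _ x.2)
  let π' : H' →* Cfsg.SU (k + 1) F q :=
    (MonoidHom.ofInjective (inclHom_injective hstar hkn)).symm.toMonoidHom.comp ρ
  have hπ' : ∀ x : H', ι (π' x) = D.π x.1 := fun x =>
    congrArg Subtype.val ((MonoidHom.ofInjective (inclHom_injective (q := q) hstar hkn)).apply_symm_apply (ρ x))
  let last : Fin (k + 1) := ⟨k, by omega⟩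
  let pen : Fin (k + 1) := ⟨k - 1, by omega⟩
  have hU : ∀ (g : Cfsg.SU (k + 1) F q) (j l : Fin (k + 1)),
      act (ι g) (Pi.single (Fin.castLE hkn j) 1) = Pi.single (Fin.castLE hkn l) 1 ↔
        act g (Pi.single j 1) = Pi.single l 1 := fun g j l => by
    rw [← incl_mulVec_single hkn, ← incl_mulVec_single hkn, act_inclHom]
    refine ⟨fun h => ?_, fun h => by rw [h]⟩
    have := congrArg ((incl (F := F) n (k + 1))ᴴ *ᵥ ·) h
    simpa only [Matrix.mulVec_mulVec, incl_form hkn, Matrix.one_mulVec] using this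
  have hlast : Fin.castLE hkn last = d := Fin.ext rfl
  have hpen : Fin.castLE hkn pen = c := Fin.ext rfl
  let a₀ : UVec (k + 1) hstar := ⟨Pi.single last 1, by rw [herm_single_left, Pi.single_eq_same]; simp⟩
  let A : Subgroup H' := (D.Hk k).subgroupOf (D.Hk (k + 1))
  let t : H' := ⟨D.μ τ, D.μ_mem hτl⟩
  have hfixA : ∀ g : Cfsg.SU (k + 1) F q, act g a₀.1 = a₀.1 ↔ ι g ∈ Sk n q k := fun g => by
    rw [show act g a₀.1 = a₀.1 ↔ _ from (hU g last last).symm, hlast, mem_Sk]
    refine ⟨fun h i hi => ?_, fun h => h d (by simp [d])⟩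
    rcases eq_or_lt_of_le hi with e | hlt
    · rw [show i = d from Fin.ext (by simpa [d] using e.symm)]; exact h
    · have : ι g ∈ Sk n q (k + 1) := hιr ▸ ⟨g, rfl⟩
      exact mem_Sk.1 this i hlt
  have hts : act (π' t) (Pi.single last 1) = Pi.single pen 1 := by
    rw [← hU, hπ', hlast, hpen]
    show act (D.π (D.μ τ)) _ = _
    rw [D.perm, act_permHom]
    congr 1
    exact dswap_apply_right hab hcd (by simp [a, c, Fin.ext_iff]; omega) (by simp [b, c, Fin.ext_iff]; omega)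
  have hw : (π' t • a₀).1 = Pi.single pen 1 := hts
  have hgen : Subgroup.closure ((A : Set H') ∪ {t}) = ⊤ := by
    rw [← Subgroup.map_injective (D.Hk (k + 1)).subtype_injective |>.eq_iff, ← MonoidHom.range_eq_map,
      Subgroup.range_subtype]
    refine le_antisymm (Subgroup.map_subtype_le _) ((D.Hk_succ hk hab hcd rfl rfl (by simp [c]; omega) rfl).trans
      (sup_le (fun x hx => ⟨⟨x, D.Hk_mono (by omega) hx⟩, Subgroup.subset_closure (Or.inl hx), rfl⟩)
        ((Subgroup.closure_le _).2 (Set.singleton_subset_iff.2 ⟨t, Subgroup.subset_closure (Or.inr rfl), rfl⟩))))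
  have hmap : A.map π' = fixS q {a₀.1} := by
    ext g
    rw [mem_fixS]
    simp only [Set.mem_singleton_iff, forall_eq]
    rw [hfixA, ← hk_good.2]
    constructor
    · rintro ⟨x, hx, rfl⟩
      exact ⟨x.1, hx, (hπ' x).symm⟩
    · rintro ⟨x, hx, hxg⟩
      refine ⟨⟨x, D.Hk_mono (by omega) hx⟩, hx, inclHom_injective hstar hkn ?_⟩
      exact (hπ' _).trans hxg
  let C : CoverData H' (Cfsg.SU (k + 1) F q) (UVec (k + 1) hstar) :=
    coverData π' hF (by omega) a₀ A t
      (fun x hx h1 => Subtype.ext (hk_good.1 x.1 hx (by rw [← hπ', h1, map_one])))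
      hmap
      (by
        show herm a₀.1 (π' t • a₀).1 = 0
        rw [hw, herm_single_left, Pi.single_eq_of_ne (fun h => by
          have := congrArg Fin.val h; simp [last, pen] at this; omega), mul_zero])
      (fun g h1 h2 => by
        rw [hw, ← hU, hpen] at h2
        obtain ⟨x, hx, hxg, hxt⟩ := D.conj_low hk hkn hab hcd rfl rfl
          (by simp [c]; omega) rfl hIH (ι g) ((hfixA g).1 h1) h2
        exact ⟨⟨x, D.Hk_mono (by omega) hx⟩, hx, inclHom_injective hstar hkn ((hπ' _).trans hxg), hxt⟩)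
      ⟨1, one_mem _, by
        show D.μ τ * 1 * D.μ τ ∈ D.Hk k
        rw [mul_one, ← map_mul, show τ * τ = 1 from ?_, map_one]
        · exact one_mem _
        exact dswap_mul_self hab hcd (by simp [a, c, Fin.ext_iff]; omega) (by simp [a, d, Fin.ext_iff]; omega)
          (by simp [b, c, Fin.ext_iff]; omega) (by simp [b, d, Fin.ext_iff]; omega)⟩
      hgen
  have htri : C.TriOK := by
    refine triOK_coverData C rfl hF (by omega) ?_
    let x : H' := ⟨D.μ ξ, D.Hk_mono (by omega) (D.μ_mem hξl)⟩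
    have hx : x ∈ A := D.μ_mem hξl
    refine ⟨((t * x * t : H') : H' ⧸ C.A), ⟨t * x, (C.mk_mul_mem t hx).symm, rfl⟩, C.E_symm ?_⟩
    refine ⟨x, (QuotientGroup.eq.2 (by rw [inv_one, one_mul]; exact hx) : ((1 : H') : H' ⧸ C.A) = _), ?_⟩
    refine (QuotientGroup.eq.2 ?_ : ((t * x * t : H') : H' ⧸ C.A) = ((x * t : H') : H' ⧸ C.A))
    show ((t * x * t)⁻¹ * (x * t) : H').1 ∈ D.Hk k
    show (D.μ τ * D.μ ξ * D.μ τ)⁻¹ * (D.μ ξ * D.μ τ) ∈ D.Hk k
    rw [← map_mul, ← map_mul, ← map_mul, ← map_inv, ← map_mul]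
    exact D.μ_mem (tri_low (by omega) hab hcd hec rfl rfl (by simp [e]; omega) (by simp [c]; omega) rfl)
  have hbij : Function.Bijective C.π := bijective_of_squares C rfl htri hF (by omega)
    fun u v w w' h1 h2 h3 h4' => by
      rcases hq with hq | ⟨rfl, hk56⟩
      · exact agree_all C rfl htri hF (by omega) hq h1 h2 h3 h4'
      refine Two.agree_two hF C rfl htri (by omega) (fun hk6 l hl A B W W' hA hB hW hW' => ?_) h1 h2 h3 h4'
      obtain rfl : k = 5 := by omega
      obtain ⟨x, y₁, y₂, z, hx, hy₁, hy₂, hz, hrel, hxv, hyv⟩ := (hk56.resolve_left (by omega)).2 a b c d hab hcd rfl rfl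
        (by simp [c]) (by simp [d]) l hl
      let emb : ∀ y ∈ D.Hk 5, H' := fun y hy => ⟨y, D.Hk_mono (by omega) hy⟩
      have hsupp : ∀ (g : H') (f : ℕ → F) (V : UVec (5 + 1) hstar), (∀ i : ℕ, 6 ≤ i → f i = 0) →
          (∀ i : Fin (5 + 1), V.1 i = f i) → act (D.π g.1) (Pi.single d 1) = (fun i : Fin n => f i) →
          π' g • a₀ = V := fun g f V hf hV hg => by
        refine Subtype.ext ?_
        show act (π' g) (Pi.single last 1) = V.1
        have e1 : incl n (5 + 1) *ᵥ act (π' g) (Pi.single last 1) = incl n (5 + 1) *ᵥ V.1 := by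
          rw [← act_inclHom hstar hkn, hπ', incl_mulVec_single hkn, hlast, hg, show V.1 = fun i : Fin (5 + 1) => f i from
            funext hV, incl_mulVec_val f hf]
        have := congrArg ((incl (F := F) n (5 + 1))ᴴ *ᵥ ·) e1
        simpa only [Matrix.mulVec_mulVec, incl_form hkn, Matrix.one_mulVec] using this
      have eA : A = C.a₀ := Subtype.ext (funext fun i => by
        rw [hA]
        show _ = (Pi.single last 1 : Fin (5 + 1) → F) i
        simp [Pi.single_apply, last, Fin.ext_iff])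
      have eW : W = C.π C.t • C.a₀ := Subtype.ext (funext fun i => by
        rw [hW]
        show _ = (π' t • a₀).1 i
        rw [hw]
        simp [Pi.single_apply, pen, Fin.ext_iff])
      have eB : C.π (C.t * emb x hx * C.t) • C.a₀ = B :=
        hsupp _ repB B (fun i hi => by simp [repB]; omega) hB hxv
      have eV : C.π (emb y₁ hy₁ * C.t) • C.a₀ = W' :=
        hsupp _ (repV l) W' (fun i hi => by
          rw [repV, if_neg (by omega), if_neg (by omega)]) hW' hyv
      rw [eA, eW, ← eB, ← eV]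
      exact C.agree_of_rel (x := emb x hx) (y₂ := emb y₂ hy₂) (z := emb z hz) hx hy₁ hy₂ hz (Subtype.ext hrel)
  refine ⟨fun x hx h1 => ?_, ?_⟩
  · have : (⟨x, hx⟩ : H') = 1 := hbij.1 (by
      show π' ⟨x, hx⟩ = π' 1
      rw [map_one]
      exact inclHom_injective hstar hkn ((hπ' _).trans (h1.trans (map_one ι).symm)))
    exact congrArg Subtype.val this
  · refine le_antisymm (D.map_Hk_le (by omega)) fun g hg => ?_
    rw [← hιr] at hg
    obtain ⟨g', rfl⟩ := hg
    obtain ⟨x, hx⟩ := hbij.2 g'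
    exact ⟨x.1, x.2, by rw [← hπ']; exact congrArg ι hx⟩

theorem good_all (hF : Fintype.card F = q ^ 2) (hq : (3 ≤ q ∨ 6 ≤ k₀) ∨ (q = 2 ∧ (6 ≤ n → D.SqRel))) :
    ∀ k, k₀ ≤ k → k ≤ n → D.Good k := by
  intro k
  induction k using Nat.strong_induction_on with
  | _ k ih =>
    intro hk hkn
    rcases eq_or_lt_of_le hk with rfl | hlt
    · rw [Good, Hk_base]; exact ⟨D.inj, D.map_B⟩
    · obtain ⟨j, rfl⟩ : ∃ j, k = j + 1 := ⟨k - 1, by omega⟩
      have hq' : (3 ≤ q ∨ 7 ≤ j + 1) ∨ (q = 2 ∧ (j + 1 = 5 ∨ (j + 1 = 6 ∧ D.SqRel))) := by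
        have h4 := D.four
        rcases hq with hq | ⟨h2, hs⟩
        · exact Or.inl (by omega)
        · rcases (by omega : j + 1 = 5 ∨ j + 1 = 6 ∨ 7 ≤ j + 1) with h | h | h
          · exact Or.inr ⟨h2, Or.inl h⟩
          · exact Or.inr ⟨h2, Or.inr ⟨h, hs (by omega)⟩⟩
          · exact Or.inl (Or.inr h)
      exact D.step hF (by omega) hkn hq' (ih j (by omega) (by omega) (by omega))
        fun h => ih (j - 1) (by omega) (by omega) (by omega)

/-- The glued group is the special unitary group. -/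
theorem bijective (hF : Fintype.card F = q ^ 2) (hq : (3 ≤ q ∨ 6 ≤ k₀) ∨ (q = 2 ∧ (6 ≤ n → D.SqRel)))
    (hgen : Subgroup.closure ((D.B : Set H) ∪ Set.range D.μ) = ⊤) : Function.Bijective D.π := by
  obtain ⟨h1, h2⟩ := D.good_all hF hq n D.le le_rfl
  have htop : D.Hk n = ⊤ := by
    rw [eq_top_iff, ← hgen, Subgroup.closure_le]
    rintro x (hx | ⟨σ, rfl⟩)
    · exact Subgroup.mem_sup_left hx
    · exact D.μ_mem fun i hi => absurd hi (by have := i.isLt; omega)
  rw [htop] at h1 h2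
  refine ⟨(injective_iff_map_eq_one _).2 fun x hx => h1 x (Subgroup.mem_top x) hx, fun g => ?_⟩
  obtain ⟨x, -, hx⟩ : g ∈ (⊤ : Subgroup H).map D.π := by
    rw [h2, Sk_top le_rfl]; exact Subgroup.mem_top g
  exact ⟨x, hx⟩

end Glue

end Cfsg.Agent.Small.SUPres
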