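import Cfsg.Agent.Lib.Small.SUPres.Induct
import Cfsg.Agent.Lib.Small.AltDeg.Perm

/-!
The even permutations stabilising the first three points, and generators of the small alternating group inside
a large one.
-/

set_option autoImplicit false
set_option linter.unusedSectionVars false
set_option linter.style.haveILetI false

namespace Cfsg.Agent.Small.SUPres

open Equiv Equiv.Perm Cfsg.Agent.Small.AltDeg

variable {m : ℕ}

/-- The points from the fourth on. -/
def tailEmb (m : ℕ) : Fin m ↪ Fin (m + 3) :=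
  ⟨fun i => ⟨i + 3, by have := i.isLt; omega⟩, fun a b h => Fin.ext (by
    have := congrArg Fin.val h; simpa using this)⟩

theorem tailEmb_val (i : Fin m) : ((tailEmb m i : Fin (m + 3)) : ℕ) = i + 3 := rfl

theorem notMem_tail {x : Fin (m + 3)} (hx : (x : ℕ) < 3) : x ∉ Set.range (tailEmb m) := by
  rintro ⟨i, rfl⟩
  rw [tailEmb_val] at hx
  omega

theorem exists_tail {x : Fin (m + 3)} (hx : 3 ≤ (x : ℕ)) : ∃ i, tailEmb m i = x :=
  ⟨⟨x - 3, by have := x.isLt; omega⟩, Fin.ext (by rw [tailEmb_val]; simp; omega)⟩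

/-- The transposition compensating the sign. -/
def signFix (m : ℕ) : ℤˣ →* Perm (Fin (m + 3)) where
  toFun s := if s = 1 then 1 else swap 0 1
  map_one' := if_pos rfl
  map_mul' a b := by
    rcases Int.units_eq_one_or a with rfl | rfl <;> rcases Int.units_eq_one_or b with rfl | rfl <;>
      simp [Equiv.swap_mul_self]

theorem signFix_tail (s : ℤˣ) (i : Fin m) : signFix m s (tailEmb m i) = tailEmb m i := by
  rcases Int.units_eq_one_or s with rfl | rfl
  · simp [signFix]
  · show (if (-1 : ℤˣ) = 1 then (1 : Perm (Fin (m + 3))) else swap 0 1) _ = _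
    rw [if_neg (by decide), Equiv.swap_apply_of_ne_of_ne]
    · intro h; have := congrArg Fin.val h; rw [tailEmb_val] at this; simp at this
    · intro h; have := congrArg Fin.val h; rw [tailEmb_val] at this
      rw [Fin.val_one] at this; omega

theorem signFix_low (s : ℤˣ) {x : Fin (m + 3)} (hx : (x : ℕ) < 3) : ((signFix m s x : Fin (m + 3)) : ℕ) < 3 := by
  rcases Int.units_eq_one_or s with rfl | rfl
  · simpa [signFix] using hx
  · show (((if (-1 : ℤˣ) = 1 then (1 : Perm (Fin (m + 3))) else swap 0 1) x : Fin (m + 3)) : ℕ) < 3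
    rw [if_neg (by decide), Equiv.swap_apply_def]
    split_ifs
    · rw [Fin.val_one]; omega
    · simp
    · exact hx

theorem signFix_commute (s : ℤˣ) (τ : Perm (Fin m)) :
    signFix m s * viaEmbedding τ (tailEmb m) = viaEmbedding τ (tailEmb m) * signFix m s := by
  refine Equiv.ext fun x => ?_
  rw [Perm.mul_apply, Perm.mul_apply]
  by_cases hx : (x : ℕ) < 3
  · rw [viaEmbedding_apply_of_notMem _ _ _ (notMem_tail hx),
      viaEmbedding_apply_of_notMem _ _ _ (notMem_tail (signFix_low s hx))]
  · obtain ⟨i, rfl⟩ := exists_tail (not_lt.1 hx)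
    rw [viaEmbedding_apply, signFix_tail, signFix_tail, viaEmbedding_apply]

theorem sign_via (τ : Perm (Fin m)) : sign (viaEmbedding τ (tailEmb m)) = sign τ := by
  classical
  rw [viaEmbedding, sign_extendDomain]

/-- The even permutations preserving the first three points, parametrised by their action on the others. -/
noncomputable def tailPerm (m : ℕ) : Perm (Fin m) →* alternatingGroup (Fin (m + 3)) where
  toFun τ := ⟨signFix m (sign τ) * viaEmbedding τ (tailEmb m), by
    rw [Equiv.Perm.mem_alternatingGroup, map_mul, sign_via]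
    rcases Int.units_eq_one_or (sign τ) with h | h <;> rw [h]
    · simp [signFix]
    · show sign (if (-1 : ℤˣ) = 1 then (1 : Perm (Fin (m + 3))) else swap 0 1) * (-1) = 1
      rw [if_neg (by decide), Equiv.Perm.sign_swap (by simp [Fin.ext_iff])]
      decide⟩
  map_one' := Subtype.ext (by
    show signFix m (sign (1 : Perm (Fin m))) * viaEmbeddingHom (tailEmb m) 1 = 1
    rw [map_one, map_one, map_one, mul_one])
  map_mul' a b := Subtype.ext (by
    show signFix m (sign (a * b)) * viaEmbeddingHom (tailEmb m) (a * b) =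
      signFix m (sign a) * viaEmbeddingHom (tailEmb m) a *
        (signFix m (sign b) * viaEmbeddingHom (tailEmb m) b)
    rw [map_mul, map_mul, map_mul, viaEmbeddingHom_apply, viaEmbeddingHom_apply, mul_assoc, mul_assoc,
      ← mul_assoc (signFix m (sign b)), signFix_commute, mul_assoc])

theorem tailPerm_low (τ : Perm (Fin m)) {x : Fin (m + 3)} (hx : (x : ℕ) < 3) :
    (((tailPerm m τ).1 x : Fin (m + 3)) : ℕ) < 3 := by
  show (((signFix m (sign τ) * viaEmbedding τ (tailEmb m)) x : Fin (m + 3)) : ℕ) < 3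
  rw [Perm.mul_apply, viaEmbedding_apply_of_notMem _ _ _ (notMem_tail hx)]
  exact signFix_low _ hx

theorem tailPerm_high (τ : Perm (Fin m)) {x : Fin (m + 3)} (hx : 3 ≤ (x : ℕ)) :
    3 ≤ (((tailPerm m τ).1 x : Fin (m + 3)) : ℕ) := by
  obtain ⟨i, rfl⟩ := exists_tail hx
  show 3 ≤ (((signFix m (sign τ) * viaEmbedding τ (tailEmb m)) (tailEmb m i) : Fin (m + 3)) : ℕ)
  rw [Perm.mul_apply, viaEmbedding_apply, signFix_tail, tailEmb_val]
  omega

/-- Even permutations fixing the first three points are in the image. -/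
theorem exists_tailPerm {σ : alternatingGroup (Fin (m + 3))} (hσ : ∀ x : Fin (m + 3), (x : ℕ) < 3 → σ.1 x = x) :
    ∃ τ, tailPerm m τ = σ := by
  classical
  have hmem : ∀ i, ∃ j, tailEmb m j = σ.1 (tailEmb m i) := fun i => exists_tail (by
    by_contra h
    have := σ.1.injective (hσ _ (not_le.1 h))
    rw [this, tailEmb_val] at h
    omega)
  choose f hf using hmem
  have hinj : Function.Injective f := fun a b h =>
    (tailEmb m).injective (σ.1.injective (by rw [← hf, ← hf, h]))
  let τ : Perm (Fin m) := Equiv.ofBijective f ⟨hinj, Finite.surjective_of_injective hinj⟩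
  have hv : viaEmbedding τ (tailEmb m) = σ.1 := Equiv.ext fun x => by
    by_cases hx : (x : ℕ) < 3
    · rw [viaEmbedding_apply_of_notMem _ _ _ (notMem_tail hx), hσ x hx]
    · obtain ⟨i, rfl⟩ := exists_tail (not_lt.1 hx)
      rw [viaEmbedding_apply]
      exact hf i
  refine ⟨τ, Subtype.ext ?_⟩
  show signFix m (sign τ) * viaEmbedding τ (tailEmb m) = σ.1
  have hs : sign τ = 1 := by
    rw [← sign_via, hv]; exact Equiv.Perm.mem_alternatingGroup.1 σ.2
  rw [hs, map_one, one_mul, hv]

/-- The image of a transposition. -/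
theorem tailPerm_swap {i j : Fin m} (hij : i ≠ j) (hab : (0 : Fin (m + 3)) ≠ 1)
    (hcd : tailEmb m i ≠ tailEmb m j) :
    tailPerm m (swap i j) = dswap 0 1 (tailEmb m i) (tailEmb m j) hab hcd := by
  refine Subtype.ext ?_
  show signFix m (sign (swap i j)) * viaEmbedding (swap i j) (tailEmb m) =
    swap 0 1 * swap (tailEmb m i) (tailEmb m j)
  rw [Equiv.Perm.sign_swap hij]
  congr 1
  · refine Equiv.ext fun x => ?_
    by_cases hx : (x : ℕ) < 3
    · rw [viaEmbedding_apply_of_notMem _ _ _ (notMem_tail hx), Equiv.swap_apply_of_ne_of_ne] <;>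
        (intro h; subst h; rw [tailEmb_val] at hx; omega)
    · obtain ⟨k, rfl⟩ := exists_tail (not_lt.1 hx)
      rw [viaEmbedding_apply]
      exact (tailEmb m).injective.map_swap i j k

theorem two_perm : ∀ τ : Perm (Fin 2), τ = 1 ∨ τ = swap 0 1 := by decide

/-- The three-cycle. -/
def rFour : A 4 := ⟨swap 0 1 * swap 1 2, by rw [Equiv.Perm.mem_alternatingGroup]; decide⟩

/-- The double transposition. -/
def uFour : A 4 := ⟨swap 0 1 * swap 2 3, by rw [Equiv.Perm.mem_alternatingGroup]; decide⟩

set_option maxRecDepth 4000 in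
theorem four_cover : ∀ y : A 4, ∃ (a : Fin 3) (b : Fin 2) (c : Fin 3),
    y = rFour ^ (a : ℕ) * uFour ^ (b : ℕ) * rFour ^ (c : ℕ) := by
  decide +kernel

/-- At most two generators of the symmetric group. -/
theorem exists_perm_gens (hm : 2 ≤ m) : ∃ (c : ℕ) (g : Fin c → Perm (Fin m)), c ≤ 2 ∧ (m = 2 → c ≤ 1) ∧
    Subgroup.closure (Set.range g) = ⊤ := by
  rcases eq_or_lt_of_le hm with rfl | h3
  · refine ⟨1, ![swap 0 1], by omega, fun _ => le_rfl, ?_⟩
    rw [eq_top_iff]
    intro τ _
    have := two_perm τ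
    rcases this with rfl | rfl
    · exact one_mem _
    · exact Subgroup.subset_closure ⟨0, rfl⟩
  · let x : Fin m := ⟨0, by omega⟩
    refine ⟨2, ![finRotate m, swap x (finRotate m x)], le_rfl, fun e => by omega, ?_⟩
    rw [← closure_cycle_adjacent_swap (isCycle_finRotate_of_le hm) (support_finRotate_of_le hm) x]
    congr 1
    simp [Matrix.range_cons, Matrix.range_empty, Set.pair_comm]

/-- Two generators of the alternating group of four points. -/
theorem lowPerm_four_gens {n : ℕ} (hn : 4 ≤ n) : ∃ r u : alternatingGroup (Fin n),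
    r ∈ lowPerm n 4 ∧ u ∈ lowPerm n 4 ∧ lowPerm n 4 ≤ Subgroup.closure {r, u} := by
  classical
  let ι : Fin 4 ↪ Fin n := Fin.castLEEmb hn
  let r₀ : A 4 := rFour
  let u₀ : A 4 := uFour
  have hgen : ∀ y : A 4, y ∈ Subgroup.closure ({r₀, u₀} : Set (A 4)) := by
    intro y
    obtain ⟨a, b, c, rfl⟩ := four_cover y
    have hr : rFour ∈ Subgroup.closure ({r₀, u₀} : Set (A 4)) := Subgroup.subset_closure (Or.inl rfl)
    have hu : uFour ∈ Subgroup.closure ({r₀, u₀} : Set (A 4)) := Subgroup.subset_closure (Or.inr rfl)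
    exact mul_mem (mul_mem (pow_mem hr _) (pow_mem hu _)) (pow_mem hr _)
  have hlow : ∀ y, emb ι y ∈ lowPerm n 4 := fun y i hi => emb_supp ι y i fun h => by
    obtain ⟨j, rfl⟩ := mem_pts.1 h
    have := j.isLt
    simp [ι] at hi
    omega
  refine ⟨emb ι r₀, emb ι u₀, hlow _, hlow _, fun σ hσ => ?_⟩
  have hS : Supp (pts ι) σ := fun x hx => hσ x (by
    by_contra h
    exact hx (mem_pts.2 ⟨⟨x, by omega⟩, Fin.ext rfl⟩))
  obtain ⟨y, rfl⟩ := mem_range_of_supp ι hS
  have := Subgroup.mem_map_of_mem (emb ι) (hgen y)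
  rwa [MonoidHom.map_closure, Set.image_pair] at this

end Cfsg.Agent.Small.SUPres
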