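import Cfsg.Agent.Lib.Small.SUPres.Induct
import Cfsg.Agent.Lib.Small.SUPres.PermPart
import Cfsg.Agent.Lib.Small.TwoGen.HermModels

/-!
The four-dimensional special unitary group is generated by the stabiliser of the last coordinate vector and the
alternating permutations.
-/

set_option autoImplicit false
set_option linter.unusedSectionVars false
set_option linter.style.haveILetI false

namespace Cfsg.Agent.Small.SUPres

open Matrix Equiv Cfsg.Agent.Small.Unitary Cfsg.Agent.Small.UCover

variable {F : Type*} [Field F] [Fintype F] [StarRing F] {q : ℕ} (hstar : ∀ x : F, star x = x ^ q)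
  (hF : Fintype.card F = q ^ 2)

theorem incl_mulVec_apply {n k : ℕ} (hk : k ≤ n) (v : Fin k → F) (a : Fin k) :
    (incl n k *ᵥ v) (Fin.castLE hk a) = v a := by
  rw [Matrix.mulVec, dotProduct, Finset.sum_eq_single a]
  · simp [incl]
  · intro b _ hb
    have : (a : ℕ) ≠ b := fun e => hb (Fin.ext e.symm)
    simp [incl, this]
  · simp

include hstar in
theorem act_perm_apply {n : ℕ} (σ : alternatingGroup (Fin n)) (v : Fin n → F) (i : Fin n) :
    act (permHom (q := q) hstar σ) v (σ.1 i) = v i := by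
  classical
  have h := herm_act hstar (permHom (q := q) hstar σ) (Pi.single i 1) v
  rw [act_permHom, herm_single_left, herm_single_left, star_one, one_mul, one_mul] at h
  exact h

theorem incl_three (v : Fin 3 → F) : incl 4 3 *ᵥ v = ![v 0, v 1, v 2, 0] := by
  funext i
  fin_cases i <;> simp [incl, Matrix.mulVec, dotProduct, Fin.sum_univ_three]

include hF in
/-- The last stabiliser and the permutations generate. -/
theorem gen_last (M : Subgroup (Cfsg.SU 4 F q)) (h3 : Sk 4 q 3 ≤ M)
    (hp : ∀ σ : alternatingGroup (Fin 4), permHom (q := q) hstar σ ∈ M) : M = ⊤ := by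
  classical
  let Good : (Fin 4 → F) → Prop := fun v => ∃ g ∈ M, act g v = Pi.single 3 1
  have step : ∀ g ∈ M, ∀ v, Good (act g v) → Good v := fun g hg v ⟨h, hh, e⟩ =>
    ⟨h * g, mul_mem hh hg, by rw [act_mul]; exact e⟩
  have mv : ∀ a b : Fin 3 → F, herm a a = 1 → herm b b = 1 →
      ∃ g ∈ M, act g (incl 4 3 *ᵥ a) = incl 4 3 *ᵥ b ∧ act g (Pi.single 3 1) = Pi.single 3 1 := by
    intro a b ha hb
    obtain ⟨g, hg⟩ := exists_move hstar hF (on_one ha) (on_one hb) (by norm_num)
    have hr : inclHom hstar (by norm_num : 3 ≤ 4) g ∈ Sk 4 q 3 := range_inclHom (q := q) hstar _ ▸ ⟨g, rfl⟩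
    refine ⟨_, h3 hr, ?_, mem_Sk.1 hr 3 (by norm_num)⟩
    rw [act_inclHom, show act g a = b from hg 0]
  have hbase : Good (Pi.single 3 1) := ⟨1, one_mem M, act_one _⟩
  have hswap : ∃ σ : alternatingGroup (Fin 4), σ.1 3 = 2 ∧ σ.1 2 = 3 :=
    ⟨⟨swap 0 1 * swap 2 3, by rw [Equiv.Perm.mem_alternatingGroup]; decide⟩, by decide, by decide⟩
  have case0 : ∀ v : Fin 4 → F, v 3 = 0 → herm v v = 1 → Good v := by
    intro v h0 hv
    have e : v = incl 4 3 *ᵥ ![v 0, v 1, v 2] := by
      rw [incl_three]; funext i; fin_cases i <;> simp [h0]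
    have hw : herm ![v 0, v 1, v 2] ![v 0, v 1, v 2] = 1 := by
      rw [← hv]; simp [herm, dotProduct, Fin.sum_univ_three, Fin.sum_univ_four, h0]
    obtain ⟨g, hg, hga, -⟩ := mv _ (Pi.single 2 1) hw (by rw [herm_single_left, Pi.single_eq_same]; simp)
    refine step g hg v ?_
    rw [e, hga]
    obtain ⟨σ, -, hσ⟩ := hswap
    refine step _ (hp σ) _ ?_
    rw [incl_mulVec_single (by norm_num : 3 ≤ 4), show Fin.castLE (by norm_num : 3 ≤ 4) (2 : Fin 3) = (2 : Fin 4) from rfl,
      act_permHom, hσ]
    exact hbase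
  have case1 : ∀ v : Fin 4 → F, herm v v = 1 → star (v 3) * v 3 ≠ 1 → Good v := by
    intro v hv hx
    set w : Fin 3 → F := ![v 0, v 1, v 2] with hw
    have hww : herm w w = 1 - star (v 3) * v 3 := by
      rw [← hv, hw]; simp [herm, dotProduct, Fin.sum_univ_three, Fin.sum_univ_four]
    have hne : herm w w ≠ 0 := by rw [hww]; exact sub_ne_zero.2 (Ne.symm hx)
    obtain ⟨s, hs0, hs⟩ := Hermitian.exists_norm hstar hF hne (star_herm w w)
    have hu : herm (s⁻¹ • w) (s⁻¹ • w) = 1 := by
      rw [herm_smul_left, herm_smul_right, ← hs, star_inv₀]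
      have : star s ≠ 0 := star_ne_zero.2 hs0
      field_simp
    obtain ⟨g, hg, hga, hg3⟩ := mv _ (Pi.single 2 1) hu (by rw [herm_single_left, Pi.single_eq_same]; simp)
    refine step g hg v ?_
    have e : v = s • (incl 4 3 *ᵥ (s⁻¹ • w)) + v 3 • Pi.single (3 : Fin 4) (1 : F) := by
      rw [Matrix.mulVec_smul, smul_smul, mul_inv_cancel₀ hs0, one_smul, hw, incl_three]
      funext i; fin_cases i <;> simp
    rw [e, act_add, act_smul, act_smul, hga, hg3]
    obtain ⟨σ, h0, h1⟩ : ∃ σ : alternatingGroup (Fin 4), σ.1 2 = 0 ∧ σ.1 3 = 1 :=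
      ⟨⟨swap 0 2 * swap 1 3, by rw [Equiv.Perm.mem_alternatingGroup]; decide⟩, by decide, by decide⟩
    refine step _ (hp σ) _ (case0 _ ?_ ?_)
    · rw [act_add, act_smul, act_smul, incl_mulVec_single (by norm_num : 3 ≤ 4),
        show Fin.castLE (by norm_num : 3 ≤ 4) (2 : Fin 3) = (2 : Fin 4) from rfl, act_permHom, act_permHom, h0, h1]
      simp
    · rw [herm_act hstar, incl_mulVec_single (by norm_num : 3 ≤ 4),
        show Fin.castLE (by norm_num : 3 ≤ 4) (2 : Fin 3) = (2 : Fin 4) from rfl]
      rw [herm_add_left, herm_add_right, herm_add_right, herm_smul_left, herm_smul_right, herm_smul_left,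
        herm_smul_right, herm_smul_left, herm_smul_right, herm_smul_left, herm_smul_right,
        herm_single_left, herm_single_left, herm_single_left, herm_single_left]
      simp
      linear_combination hs + hww
  have case2 : ∀ v : Fin 4 → F, herm v v = 1 → (∃ i, star (v i) * v i ≠ 1) → Good v := by
    rintro v hv ⟨i, hi⟩
    obtain ⟨σ, hσ⟩ : ∃ σ : alternatingGroup (Fin 4), σ.1 i = 3 := by
      fin_cases i
      · exact ⟨⟨swap 0 3 * swap 1 2, by rw [Equiv.Perm.mem_alternatingGroup]; decide⟩, by decide⟩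
      · exact ⟨⟨swap 1 3 * swap 0 2, by rw [Equiv.Perm.mem_alternatingGroup]; decide⟩, by decide⟩
      · exact ⟨⟨swap 2 3 * swap 0 1, by rw [Equiv.Perm.mem_alternatingGroup]; decide⟩, by decide⟩
      · exact ⟨1, rfl⟩
    refine step _ (hp σ) v (case1 _ (by rw [herm_act hstar, hv]) ?_)
    rw [← hσ, act_perm_apply]
    exact hi
  have all : ∀ v : Fin 4 → F, herm v v = 1 → Good v := by
    intro v hv
    by_cases h : ∃ i, star (v i) * v i ≠ 1
    · exact case2 v hv h
    push Not at h
    have h30 : (3 : F) = 0 := by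
      have e : herm v v = 4 := by
        simp [herm, dotProduct, Fin.sum_univ_four, h]
      linear_combination hv - e
    have h2 : (2 : F) ≠ 0 := fun e => one_ne_zero (α := F) (by linear_combination h30 - e)
    obtain ⟨s, hs0, hs⟩ := Hermitian.exists_norm hstar hF h2 (by simp)
    let u : Fin 3 → F := ![v 0 / s, v 1 / s, 0]
    have hu : herm u u = 1 := by
      have : star s ≠ 0 := star_ne_zero.2 hs0
      simp [u, herm, dotProduct, Fin.sum_univ_three, star_div₀]
      field_simp
      linear_combination h 0 + h 1 - hs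
    have hus : herm u (Pi.single 2 1) = 0 := by simp [u, herm, dotProduct, Fin.sum_univ_three]
    obtain ⟨g, hg⟩ := exists_move hstar hF
      (on_two hu (show herm (Pi.single 2 1 : Fin 3 → F) (Pi.single 2 1) = 1 by
        rw [herm_single_left, Pi.single_eq_same]; simp) hus)
      (on_two (show herm (Pi.single 0 1 : Fin 3 → F) (Pi.single 0 1) = 1 by
        rw [herm_single_left, Pi.single_eq_same]; simp)
        (show herm (Pi.single 2 1 : Fin 3 → F) (Pi.single 2 1) = 1 by
        rw [herm_single_left, Pi.single_eq_same]; simp)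
        (show herm (Pi.single 0 1 : Fin 3 → F) (Pi.single 2 1) = 0 by
        rw [herm_single_left, Pi.single_eq_of_ne (by decide)]; simp)) (by norm_num)
    have hr : inclHom hstar (by norm_num : 3 ≤ 4) g ∈ Sk 4 q 3 := range_inclHom (q := q) hstar _ ▸ ⟨g, rfl⟩
    refine step _ (h3 hr) v (case2 _ (by rw [herm_act hstar, hv]) ⟨1, ?_⟩)
    have e : v = incl 4 3 *ᵥ (s • u + v 2 • Pi.single (2 : Fin 3) (1 : F)) + v 3 • Pi.single (3 : Fin 4) (1 : F) := by
      rw [incl_three]
      funext i
      fin_cases i <;> simp [u, mul_div_cancel₀ _ hs0]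
    rw [e, act_add, act_smul, mem_Sk.1 hr 3 (by norm_num), act_inclHom, act_add, act_smul, act_smul,
      show act g u = Pi.single 0 1 from hg 0, show act g (Pi.single 2 1) = Pi.single 2 1 from hg 1, incl_three]
    simp
  rw [eq_top_iff]
  intro g _
  obtain ⟨h, hh, he⟩ := all (act g (Pi.single 3 1)) (by rw [herm_act hstar, herm_single_left, Pi.single_eq_same]; simp)
  have : h * g ∈ Sk 4 q 3 := mem_Sk.2 fun i hi => by
    obtain rfl : i = 3 := Fin.ext (by have := i.isLt; simp; omega)
    rw [act_mul]; exact he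
  have := mul_mem (inv_mem hh) (h3 this)
  rwa [inv_mul_cancel_left] at this

end Cfsg.Agent.Small.SUPres
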