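import Cfsg.Agent.Lib.Small.SUPres.Two.Main

/-!
Presentations of the special unitary groups of degree at least four on six generators.
-/

set_option autoImplicit false
set_option linter.unusedSectionVars false
set_option linter.style.haveILetI false

namespace Cfsg.Agent.Small.SUPres

open Cfsg.Agent.Small.BoundedPres

universe u

/-- The field with `q²` elements has the involution `x ↦ x^q`. -/
theorem exists_starRing {F : Type u} [Field F] [Fintype F] {q : ℕ} (hF : Fintype.card F = q ^ 2) :
    ∃ S : StarRing F, ∀ x : F, @star F S.toStar x = x ^ q := by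
  obtain ⟨p, hp⟩ := CharP.exists F
  haveI := hp
  haveI hpf : Fact p.Prime := ⟨CharP.char_is_prime F p⟩
  obtain ⟨k, -, hk⟩ := FiniteField.card F p
  obtain ⟨i, -, hi⟩ := (Nat.dvd_prime_pow hpf.out).1
    (show q ∣ p ^ (k : ℕ) by rw [← hk, hF]; exact dvd_pow_self _ (by norm_num))
  haveI : ExpChar F p := ExpChar.prime hpf.out
  have hσ : ∀ x : F, iterateFrobenius F p i x = x ^ q := fun x => by rw [hi]; exact iterateFrobenius_def ..
  exact ⟨Hermitian.starRingOfInvolution (iterateFrobenius F p i) (fun x => by
    rw [hσ, hσ, ← pow_mul, ← sq, ← hF, FiniteField.pow_card]), hσ⟩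

variable {F : Type u} [Field F] [Fintype F] {q : ℕ} (hF : Fintype.card F = q ^ 2)
include hF

/-- Four dimensions. -/
theorem presN_SU4 : PresN 6 (Cfsg.SU 4 F q) 28 := by
  obtain ⟨S, hS⟩ := exists_starRing hF
  letI := S
  exact presN_SU_four hS hF

/-- Five dimensions. -/
theorem presN_SU5 : PresN 6 (Cfsg.SU 5 F q) 34 := by
  obtain ⟨S, hS⟩ := exists_starRing hF
  letI := S
  by_cases h2 : q = 2
  · subst h2
    exact (presN_SU_two hS hF 2 le_rfl).mono (by norm_num)
  · have := Hermitian.q_two_le hF
    exact presN_SU_large hS hF (by omega) 2 le_rfl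

/-- All degrees from four on. -/
theorem presN_SU_all {n : ℕ} (hn : 4 ≤ n) : PresN 6 (Cfsg.SU n F q) 39 := by
  obtain ⟨S, hS⟩ := exists_starRing hF
  letI := S
  rcases eq_or_lt_of_le hn with rfl | h5
  · exact (presN_SU4 hF).mono (by norm_num)
  obtain ⟨m, rfl⟩ : ∃ m, n = m + 3 := ⟨n - 3, by omega⟩
  by_cases h2 : q = 2
  · subst h2
    exact (presN_SU_two hS hF m (by omega)).mono (by split_ifs <;> norm_num)
  · have := Hermitian.q_two_le hF
    exact (presN_SU_large hS hF (by omega) m (by omega)).mono (by split_ifs <;> norm_num)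

end Cfsg.Agent.Small.SUPres
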