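import Cfsg.Agent.Lib.Small.BoundedPres.PresNTools

/-!
Presentations on a given family of generators; amalgams and changes of generators.
-/

set_option autoImplicit false
set_option linter.style.haveILetI false

namespace Cfsg.Agent.Small.SUPres

open Subgroup Cfsg.Agent.Small.BoundedPres

universe u v

/-- The family generates and at most `r` words present the group on it. -/
def PresOn {ι : Type} {G : Type u} [Group G] (f : ι → G) (r : ℕ) : Prop :=
  closure (Set.range f) = ⊤ ∧ ∃ rels : Finset (FreeGroup ι), rels.card ≤ r ∧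
    (FreeGroup.lift f).ker = normalClosure (↑rels : Set (FreeGroup ι))

namespace PresOn

variable {ι : Type} {G : Type u} [Group G] {f : ι → G} {r : ℕ}

theorem surjective (h : PresOn f r) : Function.Surjective (FreeGroup.lift f) := by
  rw [← MonoidHom.range_eq_top, FreeGroup.range_lift_eq_closure, h.1]

theorem mono (h : PresOn f r) {r' : ℕ} (hr : r ≤ r') : PresOn f r' := by
  obtain ⟨hg, rels, hc, hk⟩ := h
  exact ⟨hg, rels, hc.trans hr, hk⟩

/-- The presented group is the group. -/
theorem exists_equiv (h : PresOn f r) : ∃ rels : Finset (FreeGroup ι), rels.card ≤ r ∧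
    ∃ e : PresentedGroup (↑rels : Set (FreeGroup ι)) ≃* G, ∀ i, e (PresentedGroup.of i) = f i := by
  have hs := h.surjective
  obtain ⟨hg, rels, hc, hk⟩ := h
  have hr : ∀ w ∈ (↑rels : Set (FreeGroup ι)), FreeGroup.lift f w = 1 := fun w hw => by
    rw [← MonoidHom.mem_ker, hk]; exact subset_normalClosure hw
  refine ⟨rels, hc, MulEquiv.ofBijective (PresentedGroup.toGroup hr) ⟨?_, ?_⟩, fun i => PresentedGroup.toGroup.of hr⟩
  · refine (injective_iff_map_eq_one _).2 fun x hx => ?_
    obtain ⟨w, rfl⟩ := PresentedGroup.mk_surjective _ x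
    have hw : w ∈ normalClosure (↑rels : Set (FreeGroup ι)) := hk ▸ hx
    exact (QuotientGroup.eq_one_iff w).2 hw
  · intro x
    obtain ⟨w, rfl⟩ := hs x
    exact ⟨PresentedGroup.mk _ w, rfl⟩

theorem presN [Fintype ι] (h : PresOn f r) : PresN (Fintype.card ι) G r := by
  classical
  obtain ⟨rels, hc, e, he⟩ := h.exists_equiv
  refine (PresN.of_inv rfl rels f ?_ e.symm.toMonoidHom (fun i => e.injective ?_) h.1).mono hc
  · intro w hw
    have : FreeGroup.lift f = e.toMonoidHom.comp (PresentedGroup.mk _) :=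
      FreeGroup.ext_hom _ _ fun i => by
        simp only [FreeGroup.lift_apply_of]
        exact (he i).symm
    rw [this, MonoidHom.comp_apply, PresentedGroup.one_of_mem (Finset.mem_coe.2 hw), map_one]
  · rw [MulEquiv.coe_toMonoidHom, MulEquiv.apply_symm_apply, he]

theorem of_equiv [Fintype ι] (rels : Finset (FreeGroup ι)) (e : PresentedGroup (↑rels : Set (FreeGroup ι)) ≃* G)
    (he : ∀ i, e (PresentedGroup.of i) = f i) (hc : rels.card ≤ r) : PresOn f r := by
  have hl : FreeGroup.lift f = e.toMonoidHom.comp (PresentedGroup.mk _) :=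
    FreeGroup.ext_hom _ _ fun i => by
      simp only [FreeGroup.lift_apply_of]
      exact (he i).symm
  refine ⟨?_, rels, hc, ?_⟩
  · rw [← FreeGroup.range_lift_eq_closure, hl, MonoidHom.range_eq_top]
    exact e.surjective.comp (PresentedGroup.mk_surjective _)
  · ext w
    rw [MonoidHom.mem_ker, hl, MonoidHom.comp_apply, MulEquiv.coe_toMonoidHom, ← map_one e,
      e.injective.eq_iff]
    exact QuotientGroup.eq_one_iff w

theorem exists_of_presN {g : ℕ} (h : PresN g G r) : ∃ f : Fin g → G, PresOn f r := by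
  obtain ⟨rels, hc, ⟨e⟩⟩ := h
  exact ⟨fun i => e (PresentedGroup.of i), of_equiv rels e (fun _ => rfl) hc⟩

theorem map {G' : Type v} [Group G'] (h : PresOn f r) (e : G ≃* G') : PresOn (fun i => e (f i)) r := by
  have hl : FreeGroup.lift (fun i => e (f i)) = e.toMonoidHom.comp (FreeGroup.lift f) :=
    FreeGroup.ext_hom _ _ fun i => by simp
  have hs := h.surjective
  obtain ⟨hg, rels, hc, hk⟩ := h
  refine ⟨?_, rels, hc, ?_⟩
  · rw [← FreeGroup.range_lift_eq_closure, hl, MonoidHom.range_eq_top]
    exact e.surjective.comp hs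
  · rw [hl, ← hk]
    ext w
    simp [MonoidHom.mem_ker]

/-- Homomorphisms from a presented group. -/
theorem exists_hom {H : Type v} [Group H] (hp : PresOn f r) (rels : Finset (FreeGroup ι))
    (hk : (FreeGroup.lift f).ker = normalClosure (↑rels : Set (FreeGroup ι))) (g : FreeGroup ι →* H)
    (hg : ∀ w ∈ rels, g w = 1) : ∃ φ : G →* H, ∀ w, φ (FreeGroup.lift f w) = g w := by
  have hle : (FreeGroup.lift f).ker ≤ g.ker := by
    rw [hk]; exact normalClosure_le_normal fun w hw => hg w hw
  refine ⟨(FreeGroup.lift f).liftOfSurjective hp.surjective ⟨g, hle⟩, fun w => ?_⟩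
  exact MonoidHom.liftOfRightInverse_comp_apply _ _ _ ⟨g, hle⟩ w

/-- One more generator costs one relation. -/
theorem insert (h : PresOn f r) (x : G) : PresOn (fun o : Option ι => o.elim x f) (r + 1) := by
  classical
  obtain ⟨wx, hwx⟩ := h.surjective x
  obtain ⟨hg, rels, hc, hk⟩ := h
  let f' : Option ι → G := fun o => o.elim x f
  let s : FreeGroup ι →* FreeGroup (Option ι) := FreeGroup.map some
  have hfs : ∀ w, FreeGroup.lift f' (s w) = FreeGroup.lift f w := fun w => DFunLike.congr_fun
    (FreeGroup.ext_hom ((FreeGroup.lift f').comp s) (FreeGroup.lift f) fun i => by simp [s, f']) w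
  let w0 : FreeGroup (Option ι) := s wx * (FreeGroup.of none)⁻¹
  refine ⟨?_, Insert.insert w0 (rels.image s), ?_, ?_⟩
  · rw [eq_top_iff, ← hg]
    exact closure_mono (by rintro _ ⟨i, rfl⟩; exact ⟨some i, rfl⟩)
  · exact (Finset.card_insert_le _ _).trans (Nat.add_le_add_right (Finset.card_image_le.trans hc) 1)
  set N := normalClosure (↑(Insert.insert w0 (rels.image s)) : Set (FreeGroup (Option ι)))
  refine le_antisymm (fun w hw => ?_) (normalClosure_le_normal fun w hw => ?_)
  · let d : FreeGroup (Option ι) →* FreeGroup ι := FreeGroup.lift fun o => o.elim wx FreeGroup.of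
    have hd : ∀ w, (QuotientGroup.mk' N) (s (d w)) = QuotientGroup.mk' N w := fun w => DFunLike.congr_fun
      (FreeGroup.ext_hom ((QuotientGroup.mk' N).comp (s.comp d)) (QuotientGroup.mk' N) fun o => by
        cases o with
        | none =>
          simp only [MonoidHom.comp_apply, d, FreeGroup.lift_apply_of, Option.elim, QuotientGroup.mk'_apply]
          rw [QuotientGroup.eq, ← inv_mem_iff, _root_.mul_inv_rev, inv_inv]
          have : w0 ∈ N := subset_normalClosure (by simp)
          have := (inferInstance : N.Normal).mem_comm this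
          exact this
        | some i => simp [s, d]) w
    have h1 : FreeGroup.lift f (d w) = FreeGroup.lift f' w := DFunLike.congr_fun
      (FreeGroup.ext_hom ((FreeGroup.lift f).comp d) (FreeGroup.lift f') fun o => by
        cases o <;> simp [d, f', hwx]) w
    have h2 : d w ∈ (N.comap s) := by
      have hle : normalClosure (↑rels : Set (FreeGroup ι)) ≤ N.comap s :=
        normalClosure_le_normal fun v hv => subset_normalClosure
          (Finset.mem_coe.2 (Finset.mem_insert_of_mem (Finset.mem_image_of_mem s (Finset.mem_coe.1 hv))))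
      refine hle (hk ▸ ?_)
      rw [MonoidHom.mem_ker, h1]
      exact hw
    rw [← QuotientGroup.eq_one_iff (N := N)]
    exact (hd w).symm.trans ((QuotientGroup.eq_one_iff _).2 h2)
  · rw [SetLike.mem_coe, MonoidHom.mem_ker]
    rcases Finset.mem_insert.1 (Finset.mem_coe.1 hw) with rfl | hw
    · show FreeGroup.lift f' w0 = 1
      simp [w0, hfs, hwx, f']
    · obtain ⟨v, hv, rfl⟩ := Finset.mem_image.1 hw
      show FreeGroup.lift f' (s v) = 1
      rw [hfs, ← MonoidHom.mem_ker, hk]
      exact subset_normalClosure (Finset.mem_coe.2 hv)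

/-- Redundant generators can be left out. -/
theorem restrict {κ : Type} (h : PresOn f r) (e : κ → ι) (he : Function.Injective e)
    (hgen : closure (Set.range (f ∘ e)) = ⊤) : PresOn (f ∘ e) r := by
  classical
  obtain ⟨hg, rels, hc, hk⟩ := h
  have hs' : Function.Surjective (FreeGroup.lift (f ∘ e)) := by
    rw [← MonoidHom.range_eq_top, FreeGroup.range_lift_eq_closure, hgen]
  choose t ht using hs'
  let sub : ι → FreeGroup κ := fun i => if h : ∃ j, e j = i then FreeGroup.of h.choose else t (f i)
  have hsube : ∀ j, sub (e j) = FreeGroup.of j := fun j => by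
    have hex : ∃ j', e j' = e j := ⟨j, rfl⟩
    rw [show sub (e j) = FreeGroup.of hex.choose from dif_pos hex]
    exact congrArg _ (he hex.choose_spec)
  let θ : FreeGroup ι →* FreeGroup κ := FreeGroup.lift sub
  have hθ : ∀ w, FreeGroup.lift (f ∘ e) (θ w) = FreeGroup.lift f w := fun w => DFunLike.congr_fun
    (FreeGroup.ext_hom ((FreeGroup.lift (f ∘ e)).comp θ) (FreeGroup.lift f) fun i => by
      simp only [MonoidHom.comp_apply, θ, FreeGroup.lift_apply_of, sub]
      split
      · next h => rw [FreeGroup.lift_apply_of, Function.comp_apply, h.choose_spec]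
      · exact ht _) w
  refine ⟨hgen, rels.image θ, Finset.card_image_le.trans hc, ?_⟩
  refine le_antisymm (fun w hw => ?_) (normalClosure_le_normal fun w hw => ?_)
  · let ε : FreeGroup κ →* FreeGroup ι := FreeGroup.map e
    have h1 : θ (ε w) = w := DFunLike.congr_fun
      (FreeGroup.ext_hom (θ.comp ε) (MonoidHom.id _) fun j => by simp [ε, θ, hsube]) w
    have h2 : ε w ∈ normalClosure (↑rels : Set (FreeGroup ι)) := by
      rw [← hk, MonoidHom.mem_ker, ← hθ, h1]
      exact hw
    have hle : normalClosure (↑rels : Set (FreeGroup ι)) ≤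
        (normalClosure (↑(rels.image θ) : Set (FreeGroup κ))).comap θ :=
      normalClosure_le_normal fun v hv =>
        subset_normalClosure (Finset.mem_coe.2 (Finset.mem_image_of_mem θ (Finset.mem_coe.1 hv)))
    rw [← h1]
    exact hle h2
  · obtain ⟨v, hv, rfl⟩ := Finset.mem_image.1 (Finset.mem_coe.1 hw)
    rw [SetLike.mem_coe, MonoidHom.mem_ker, hθ, ← MonoidHom.mem_ker, hk]
    exact subset_normalClosure (Finset.mem_coe.2 hv)

end PresOn

/-- Words in two groups. -/
abbrev Words (A : Type u) (B : Type v) [Group A] [Group B] := Monoid.Coprod A B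

/-- Two presented groups and finitely many relations between them. -/
theorem PresOn.amalgam {ι κ : Type} {G₁ : Type u} {G₂ : Type v} {G : Type u} [Group G₁] [Group G₂] [Group G]
    {f₁ : ι → G₁} {f₂ : κ → G₂} {r₁ r₂ k : ℕ} (h₁ : PresOn f₁ r₁) (h₂ : PresOn f₂ r₂)
    (a : G₁ →* G) (b : G₂ →* G) (R : Fin k → Words G₁ G₂) (hR : ∀ i, Monoid.Coprod.lift a b (R i) = 1)
    (hbij : ∀ (H : Type (max u v)) [Group H] (α : G₁ →* H) (β : G₂ →* H) (π : H →* G),
      (∀ x, π (α x) = a x) → (∀ y, π (β y) = b y) → α.range ⊔ β.range = ⊤ →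
        (∀ i, Monoid.Coprod.lift α β (R i) = 1) → Function.Bijective π) :
    PresOn (Sum.elim (a ∘ f₁) (b ∘ f₂)) (r₁ + r₂ + k) := by
  classical
  have hs₁ := h₁.surjective
  have hs₂ := h₂.surjective
  have H₁ := h₁
  have H₂ := h₂
  obtain ⟨-, R₁, hc₁, hk₁⟩ := h₁
  obtain ⟨-, R₂, hc₂, hk₂⟩ := h₂
  let il : FreeGroup ι →* FreeGroup (ι ⊕ κ) := FreeGroup.map Sum.inl
  let ir : FreeGroup κ →* FreeGroup (ι ⊕ κ) := FreeGroup.map Sum.inr
  let P : FreeGroup (ι ⊕ κ) →* Words G₁ G₂ :=
    FreeGroup.lift (Sum.elim (Monoid.Coprod.inl ∘ f₁) (Monoid.Coprod.inr ∘ f₂))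
  have hPl : ∀ w, P (il w) = Monoid.Coprod.inl (FreeGroup.lift f₁ w) := fun w => DFunLike.congr_fun
    (FreeGroup.ext_hom (P.comp il) (Monoid.Coprod.inl.comp (FreeGroup.lift f₁)) fun i => by simp [P, il]) w
  have hPr : ∀ w, P (ir w) = Monoid.Coprod.inr (FreeGroup.lift f₂ w) := fun w => DFunLike.congr_fun
    (FreeGroup.ext_hom (P.comp ir) (Monoid.Coprod.inr.comp (FreeGroup.lift f₂)) fun i => by simp [P, ir]) w
  have hP : Function.Surjective P := by
    rw [← MonoidHom.range_eq_top, eq_top_iff, ← Monoid.Coprod.range_inl_sup_range_inr]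
    refine sup_le ?_ ?_
    · rintro _ ⟨x, rfl⟩
      obtain ⟨w, rfl⟩ := hs₁ x
      exact ⟨il w, hPl w⟩
    · rintro _ ⟨x, rfl⟩
      obtain ⟨w, rfl⟩ := hs₂ x
      exact ⟨ir w, hPr w⟩
  choose W hW using fun i => hP (R i)
  let rels : Finset (FreeGroup (ι ⊕ κ)) := R₁.image il ∪ R₂.image ir ∪ Finset.univ.image W
  have hlift : FreeGroup.lift (Sum.elim (a ∘ f₁) (b ∘ f₂)) = (Monoid.Coprod.lift a b).comp P :=
    FreeGroup.ext_hom _ _ fun i => by rcases i with i | i <;> simp [P]
  let N := normalClosure (↑rels : Set (FreeGroup (ι ⊕ κ)))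
  let M := normalClosure (Set.range R)
  have hM : ∀ x ∈ M, Monoid.Coprod.lift a b x = 1 :=
    fun x hx => normalClosure_le_normal (N := (Monoid.Coprod.lift a b).ker)
      (by rintro _ ⟨i, rfl⟩; exact hR i) hx
  let π : Words G₁ G₂ ⧸ M →* G := QuotientGroup.lift M (Monoid.Coprod.lift a b) hM
  have hπ : Function.Bijective π := by
    refine hbij _ ((QuotientGroup.mk' M).comp Monoid.Coprod.inl) ((QuotientGroup.mk' M).comp Monoid.Coprod.inr) π
      (fun x => Monoid.Coprod.lift_apply_inl a b x) (fun y => Monoid.Coprod.lift_apply_inr a b y) ?_ fun i => ?_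
    · rw [MonoidHom.range_comp, MonoidHom.range_comp, ← Subgroup.map_sup, Monoid.Coprod.range_inl_sup_range_inr,
        Subgroup.map_top_of_surjective _ (QuotientGroup.mk'_surjective M)]
    · have e : Monoid.Coprod.lift ((QuotientGroup.mk' M).comp Monoid.Coprod.inl)
          ((QuotientGroup.mk' M).comp Monoid.Coprod.inr) = QuotientGroup.mk' M :=
        Monoid.Coprod.hom_ext (by ext; simp) (by ext; simp)
      rw [e, QuotientGroup.mk'_apply, QuotientGroup.eq_one_iff]
      exact subset_normalClosure ⟨i, rfl⟩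
  have h1N : R₁.image il ⊆ rels := Finset.subset_union_left.trans Finset.subset_union_left
  have h2N : R₂.image ir ⊆ rels := Finset.subset_union_right.trans Finset.subset_union_left
  obtain ⟨α, hα⟩ := H₁.exists_hom R₁ hk₁ ((QuotientGroup.mk' N).comp il) fun w hw =>
    (QuotientGroup.eq_one_iff _).2 (subset_normalClosure (Finset.mem_coe.2 (h1N (Finset.mem_image_of_mem il hw))))
  obtain ⟨β, hβ⟩ := H₂.exists_hom R₂ hk₂ ((QuotientGroup.mk' N).comp ir) fun w hw =>
    (QuotientGroup.eq_one_iff _).2 (subset_normalClosure (Finset.mem_coe.2 (h2N (Finset.mem_image_of_mem ir hw))))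
  have hαβ : ∀ w, Monoid.Coprod.lift α β (P w) = QuotientGroup.mk' N w := fun w => DFunLike.congr_fun
    (FreeGroup.ext_hom ((Monoid.Coprod.lift α β).comp P) (QuotientGroup.mk' N) fun i => by
      rcases i with i | i
      · have := hα (FreeGroup.of i)
        simpa [P, il] using this
      · have := hβ (FreeGroup.of i)
        simpa [P, ir] using this) w
  refine ⟨?_, rels, ?_, ?_⟩
  · rw [← FreeGroup.range_lift_eq_closure, hlift, MonoidHom.range_eq_top]
    intro x
    obtain ⟨y, hy⟩ := hπ.2 x
    obtain ⟨z, rfl⟩ := QuotientGroup.mk'_surjective M y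
    obtain ⟨w, rfl⟩ := hP z
    exact ⟨w, hy⟩
  · refine (Finset.card_union_le _ _).trans (Nat.add_le_add ((Finset.card_union_le _ _).trans
      (Nat.add_le_add (Finset.card_image_le.trans hc₁) (Finset.card_image_le.trans hc₂))) ?_)
    exact Finset.card_image_le.trans (by simp)
  rw [hlift]
  refine le_antisymm (fun w hw => ?_) (normalClosure_le_normal fun w hw => ?_)
  · have h0 : (Monoid.Coprod.lift a b) (P w) = 1 := hw
    have hPM : P w ∈ M := by
      rw [← QuotientGroup.eq_one_iff]
      apply hπ.1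
      rw [map_one]
      exact h0
    have hle : M ≤ (Monoid.Coprod.lift α β).ker := normalClosure_le_normal (by
      rintro _ ⟨i, rfl⟩
      show Monoid.Coprod.lift α β (R i) = 1
      rw [← hW, hαβ, QuotientGroup.mk'_apply, QuotientGroup.eq_one_iff]
      exact subset_normalClosure (Finset.mem_coe.2
        (Finset.mem_union_right _ (Finset.mem_image_of_mem W (Finset.mem_univ i)))))
    have := hle hPM
    rw [MonoidHom.mem_ker, hαβ] at this
    exact (QuotientGroup.eq_one_iff w).1 this
  · show Monoid.Coprod.lift a b (P w) = 1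
    rcases Finset.mem_union.1 (Finset.mem_coe.1 hw) with hw | hw
    · rcases Finset.mem_union.1 hw with hw | hw <;> obtain ⟨v, hv, rfl⟩ := Finset.mem_image.1 hw
      · rw [hPl, Monoid.Coprod.lift_apply_inl, show FreeGroup.lift f₁ v = 1 from
          (hk₁ ▸ subset_normalClosure (Finset.mem_coe.2 hv) : v ∈ (FreeGroup.lift f₁).ker), map_one]
      · rw [hPr, Monoid.Coprod.lift_apply_inr, show FreeGroup.lift f₂ v = 1 from
          (hk₂ ▸ subset_normalClosure (Finset.mem_coe.2 hv) : v ∈ (FreeGroup.lift f₂).ker), map_one]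
    · obtain ⟨i, -, rfl⟩ := Finset.mem_image.1 hw
      rw [hW]
      exact hR i

end Cfsg.Agent.Small.SUPres
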