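import Cfsg.Agent.Lib.Small.SUPres.GlueGen
import Cfsg.Agent.Lib.Small.SUPres.PresOn

/-!
Presentations of the special unitary groups from one of degree four and one of the alternating group.
-/

set_option autoImplicit false
set_option linter.unusedSectionVars false
set_option linter.style.haveILetI false

namespace Cfsg.Agent.Small.SUPres

open Matrix Equiv Cfsg.Agent.Small.Unitary Cfsg.Agent.Small.UCover Cfsg.Agent.Small.AltDeg

universe u

variable {F : Type u} [Field F] [Fintype F] [StarRing F] {q : ℕ} (hstar : ∀ x : F, star x = x ^ q)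
  (hF : Fintype.card F = q ^ 2)

theorem act_incl_single {n k : ℕ} (hk : k ≤ n) (g : Cfsg.SU k F q) (a b : Fin k) :
    act (inclHom hstar hk g) (Pi.single (Fin.castLE hk a) 1) = Pi.single (Fin.castLE hk b) 1 ↔
      act g (Pi.single a 1) = Pi.single b 1 := by
  rw [← incl_mulVec_single hk, ← incl_mulVec_single hk, act_inclHom]
  refine ⟨fun h => ?_, fun h => by rw [h]⟩
  have := congrArg ((incl (F := F) n k)ᴴ *ᵥ ·) h
  simpa only [Matrix.mulVec_mulVec, incl_form hk, Matrix.one_mulVec] using this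

theorem inclHom_mem_three {n : ℕ} (hn : 4 ≤ n) {w : Cfsg.SU 4 F q} :
    inclHom hstar hn w ∈ Sk n q 3 ↔ w ∈ Sk 4 q 3 := by
  refine ⟨fun h => mem_Sk.2 fun i hi => ?_, fun h => mem_Sk.2 fun i hi => ?_⟩
  · exact (act_incl_single hstar hn w i i).1 (mem_Sk.1 h _ hi)
  · by_cases h4 : (i : ℕ) < 4
    · have := (act_incl_single hstar hn w ⟨i, h4⟩ ⟨i, h4⟩).2 (mem_Sk.1 h _ hi)
      rwa [show Fin.castLE hn (⟨i, h4⟩ : Fin 4) = i from Fin.ext rfl] at this
    · have : inclHom hstar hn w ∈ Sk n q 4 := range_inclHom (q := q) hstar hn ▸ ⟨w, rfl⟩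
      exact mem_Sk.1 this i (not_lt.1 h4)

theorem perm_mem_Sk {n k : ℕ} {σ : alternatingGroup (Fin n)} (hσ : σ ∈ lowPerm n k) :
    permHom (q := q) hstar σ ∈ Sk n q k := mem_Sk.2 fun i hi => by rw [act_permHom, hσ i hi]

theorem exists_perm_incl {n : ℕ} (hn : 4 ≤ n) (σ : alternatingGroup (Fin 4)) :
    ∃ a : alternatingGroup (Fin n), a ∈ lowPerm n 4 ∧ (σ ∈ lowPerm 4 3 → a ∈ lowPerm n 3) ∧
      permHom hstar a = inclHom hstar hn (permHom (q := q) hstar σ) := by
  let a : A n := emb (Fin.castLEEmb hn) σ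
  have hap : ∀ i : Fin 4, a.1 (Fin.castLE hn i) = Fin.castLE hn (σ.1 i) := fun i =>
    emb_apply (Fin.castLEEmb hn) σ i
  have hout : ∀ i : Fin n, 4 ≤ (i : ℕ) → a.1 i = i := fun i hi => emb_supp (Fin.castLEEmb hn) σ i fun h => by
    obtain ⟨j, rfl⟩ := mem_pts.1 h
    have := j.isLt
    simp at hi
    omega
  refine ⟨a, hout, fun h i hi => ?_, ?_⟩
  · by_cases h4 : (i : ℕ) < 4
    · rw [show i = Fin.castLE hn ⟨i, h4⟩ from Fin.ext rfl, hap, h ⟨i, h4⟩ hi]
    · exact hout i (not_lt.1 h4)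
  · refine Subtype.ext (Subtype.ext (Matrix.ext_of_mulVec_single fun i => ?_))
    show act (permHom hstar a) (Pi.single i 1) = act (inclHom hstar hn (permHom hstar σ)) (Pi.single i 1)
    by_cases h4 : (i : ℕ) < 4
    · rw [show i = Fin.castLE hn ⟨i, h4⟩ from Fin.ext rfl, act_permHom, hap]
      exact ((act_incl_single hstar hn _ _ _).2 (act_permHom hstar σ _)).symm
    · have : inclHom hstar hn (permHom (q := q) hstar σ) ∈ Sk n q 4 := range_inclHom (q := q) hstar hn ▸ ⟨_, rfl⟩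
      rw [act_permHom, hout i (not_lt.1 h4), mem_Sk.1 this i (not_lt.1 h4)]

theorem perm_commute_incl {n : ℕ} (hn : 4 ≤ n) {σ : alternatingGroup (Fin n)}
    (hσ : ∀ i : Fin n, (i : ℕ) < 4 → σ.1 i = i) (w : Cfsg.SU 4 F q) :
    permHom hstar σ * inclHom hstar hn w * (permHom hstar σ)⁻¹ = inclHom hstar hn w := by
  rw [mul_inv_eq_iff_eq_mul]
  refine Subtype.ext (Subtype.ext (Matrix.ext_of_mulVec_single fun i => ?_))
  show act (permHom hstar σ * inclHom hstar hn w) (Pi.single i 1) =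
    act (inclHom hstar hn w * permHom hstar σ) (Pi.single i 1)
  rw [act_mul, act_mul, act_permHom]
  by_cases h4 : (i : ℕ) < 4
  · rw [hσ i h4, show i = Fin.castLE hn ⟨i, h4⟩ from Fin.ext rfl, ← incl_mulVec_single hn, act_inclHom]
    funext j
    obtain ⟨k, rfl⟩ := σ.1.surjective j
    rw [act_perm_apply]
    by_cases hk : (k : ℕ) < 4
    · rw [hσ k hk]
    · have hsk : ¬ ((σ.1 k : Fin n) : ℕ) < 4 := fun h => hk (by
        have := σ.1.injective (hσ _ h); rwa [this] at h)
      have z : ∀ (v : Fin 4 → F) (j : Fin n), ¬ (j : ℕ) < 4 → (incl n 4 *ᵥ v) j = 0 := fun v j hj => by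
        rw [Matrix.mulVec, dotProduct]
        exact Finset.sum_eq_zero fun b _ => by
          have : (j : ℕ) ≠ b := by have := b.isLt; omega
          simp [incl, this]
      rw [z _ _ hk, z _ _ hsk]
  · have h1 : 4 ≤ ((σ.1 i : Fin n) : ℕ) := by
      by_contra h
      have := σ.1.injective (hσ _ (not_le.1 h))
      rw [this] at h
      omega
    have hm : inclHom hstar hn w ∈ Sk n q 4 := range_inclHom (q := q) hstar hn ▸ ⟨w, rfl⟩
    rw [mem_Sk.1 hm i (not_lt.1 h4), mem_Sk.1 hm _ h1, act_permHom]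

variable {m : ℕ}

/-- The tail permutations normalise the stabiliser. -/
theorem tail_conj_mem (hn : 4 ≤ m + 3) (τ : Perm (Fin m)) {w : Cfsg.SU 4 F q} (hw : w ∈ Sk 4 q 3) :
    ∃ w' ∈ Sk 4 q 3, inclHom hstar hn w' = permHom hstar (tailPerm m τ) * inclHom hstar hn w *
      (permHom hstar (tailPerm m τ))⁻¹ := by
  have h3 : permHom hstar (tailPerm m τ) * inclHom hstar hn w * (permHom hstar (tailPerm m τ))⁻¹ ∈
      Sk (m + 3) q 3 := mem_Sk.2 fun i hi => by
    rw [← map_inv, ← map_inv, act_mul, act_mul, act_permHom,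
      mem_Sk.1 ((inclHom_mem_three hstar hn).2 hw) _ (tailPerm_high τ⁻¹ hi), act_permHom, map_inv]
    congr 1
    exact Equiv.apply_symm_apply (tailPerm m τ).1 i
  obtain ⟨w', e⟩ : permHom hstar (tailPerm m τ) * inclHom hstar hn w * (permHom hstar (tailPerm m τ))⁻¹ ∈
      (inclHom (q := q) hstar hn).range := range_inclHom (q := q) hstar hn ▸ Sk_mono (by norm_num) h3
  exact ⟨w', (inclHom_mem_three hstar hn).1 (e ▸ h3), e⟩

include hF in
/-- Gluing a presentation of degree four to one of the alternating group. -/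
theorem presOn_glue_extra (hm : 2 ≤ m) {ι κ : Type} {f₁ : ι → Cfsg.SU 4 F q}
    {f₂ : κ → alternatingGroup (Fin (m + 3))} {r₁ r₂ e : ℕ} (h₁ : PresOn f₁ r₁) (h₂ : PresOn f₂ r₂)
    (E : Fin e → Cfsg.SU 4 F q) (hE : ∀ i, E i ∈ Sk 4 q 3)
    (hEgen : Sk 4 q 3 ≤ Subgroup.closure (Set.range E ∪
      (permHom (q := q) hstar) '' (lowPerm 4 3 : Set (alternatingGroup (Fin 4)))))
    {s : ℕ} (R' : Fin s → Words (Cfsg.SU 4 F q) (alternatingGroup (Fin (m + 3))))
    (hR' : ∀ i, Monoid.Coprod.lift (inclHom hstar (by omega : 4 ≤ m + 3)) (permHom hstar) (R' i) = 1)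
    (hfin : ∀ (H : Type u) [Group H] (α : Cfsg.SU 4 F q →* H) (β : alternatingGroup (Fin (m + 3)) →* H)
      (D : Glue F (m + 3) H hstar 4), D.μ = β → D.B = α.range →
        (∀ x, D.π (α x) = inclHom hstar (by omega : 4 ≤ m + 3) x) →
        (∀ i, Monoid.Coprod.lift α β (R' i) = 1) →
        (3 ≤ q ∨ 6 ≤ 4) ∨ (q = 2 ∧ (6 ≤ m + 3 → D.SqRel))) :
    PresOn (Sum.elim (inclHom hstar (by omega : 4 ≤ m + 3) ∘ f₁) (permHom hstar ∘ f₂))
      (r₁ + r₂ + ((if m = 2 then 1 else 2) * e + 2 + s)) := by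
  classical
  have hn : 4 ≤ m + 3 := by omega
  obtain ⟨c, g, hc2, hc1, hg⟩ := exists_perm_gens hm
  obtain ⟨ar, au, hr, hu, hlow⟩ := lowPerm_four_gens hn
  have hpre : ∀ σ ∈ lowPerm (m + 3) 4, ∃ x, inclHom hstar hn x = permHom (q := q) hstar σ := fun σ hσ => by
    have : permHom (q := q) hstar σ ∈ (inclHom (q := q) hstar hn).range :=
      range_inclHom (q := q) hstar hn ▸ perm_mem_Sk hstar hσ
    exact this
  obtain ⟨xr, hxr⟩ := hpre ar hr
  obtain ⟨xu, hxu⟩ := hpre au hu
  choose w hw hwe using fun (p : Fin c × Fin e) => tail_conj_mem hstar hn (g p.1) (hE p.2)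
  let R : (Fin c × Fin e ⊕ Fin 2) ⊕ Fin s → Words (Cfsg.SU 4 F q) (alternatingGroup (Fin (m + 3))) := fun x =>
    match x with
    | .inr j => R' j
    | .inl (.inl p) => Monoid.Coprod.inr (tailPerm m (g p.1)) * Monoid.Coprod.inl (E p.2) *
        (Monoid.Coprod.inr (tailPerm m (g p.1)))⁻¹ * (Monoid.Coprod.inl (w p))⁻¹
    | .inl (.inr i) => ![Monoid.Coprod.inr ar * (Monoid.Coprod.inl xr)⁻¹,
        Monoid.Coprod.inr au * (Monoid.Coprod.inl xu)⁻¹] i
  let eI := (Fintype.equivFin ((Fin c × Fin e ⊕ Fin 2) ⊕ Fin s)).symm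
  refine (PresOn.amalgam h₁ h₂ (inclHom hstar hn) (permHom hstar) (fun i => R (eI i)) ?_ ?_).mono ?_
  · intro i
    generalize eI i = x
    rcases x with (p | i) | j
    · simp [R, hwe]
    · fin_cases i <;> simp [R, hxr, hxu]
    · exact hR' j
  swap
  · have hcard : Fintype.card ((Fin c × Fin e ⊕ Fin 2) ⊕ Fin s) ≤ (if m = 2 then 1 else 2) * e + 2 + s := by
      simp only [Fintype.card_sum, Fintype.card_prod, Fintype.card_fin]
      refine Nat.add_le_add_right (Nat.add_le_add_right (Nat.mul_le_mul_right e ?_) 2) s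
      split_ifs with h
      · exact hc1 h
      · exact hc2
    omega
  intro H _ α β π hα hβ hgen hR
  have hrel : ∀ x, Monoid.Coprod.lift α β (R x) = 1 := fun x => by
    have := hR (eI.symm x); rwa [Equiv.apply_symm_apply] at this
  have hinj : ∀ x y, π (α x) = π (α y) → x = y := fun x y h => inclHom_injective hstar hn (by
    rwa [hα, hα] at h)
  have inner : ∀ σ ∈ lowPerm (m + 3) 4, β σ ∈ α.range := by
    intro σ hσ
    refine ((Subgroup.closure_le (α.range.comap β)).2 ?_) (hlow hσ)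
    rintro _ (rfl | rfl)
    · have := hrel (.inl (.inr 0))
      simp [R, mul_inv_eq_one] at this
      exact ⟨xr, this.symm⟩
    · have := hrel (.inl (.inr 1))
      simp [R, mul_inv_eq_one] at this
      exact ⟨xu, this.symm⟩
  have perm4 : ∀ σ : alternatingGroup (Fin 4), ∃ a : alternatingGroup (Fin (m + 3)), a ∈ lowPerm (m + 3) 4 ∧
      (σ ∈ lowPerm 4 3 → a ∈ lowPerm (m + 3) 3) ∧ α (permHom hstar σ) = β a := fun σ => by
    obtain ⟨a, ha, ha3, hae⟩ := exists_perm_incl (q := q) hstar hn σ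
    obtain ⟨x, hx⟩ := inner a ha
    refine ⟨a, ha, ha3, ?_⟩
    rw [← hx]
    congr 1
    exact hinj _ _ (by rw [hα, hx, hβ, hae])
  let cj : H → Cfsg.SU 4 F q →* H := fun h => (MulAut.conj h).toMonoidHom.comp α
  let P : Perm (Fin m) → Prop := fun τ => ∀ x ∈ Sk 4 q 3, cj (β (tailPerm m τ)) x ∈ α.range
  have himg : ∀ τ x y, α y = cj (β (tailPerm m τ)) x →
      inclHom hstar hn y = permHom hstar (tailPerm m τ) * inclHom hstar hn x *
        (permHom hstar (tailPerm m τ))⁻¹ := fun τ x y h => by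
    have := congrArg π h
    rw [show cj (β (tailPerm m τ)) x = β (tailPerm m τ) * α x * (β (tailPerm m τ))⁻¹ from rfl, map_mul,
      map_mul, map_inv, hα, hα, hβ] at this
    exact this
  have hPg : ∀ i, P (g i) := fun i => by
    intro x hx
    refine ((Subgroup.closure_le (α.range.comap (cj _))).2 ?_) (hEgen hx)
    rintro y (⟨j, rfl⟩ | ⟨σ, hσ, rfl⟩)
    · have := hrel (.inl (.inl (i, j)))
      simp [R, mul_inv_eq_one] at this
      exact ⟨w (i, j), this.symm⟩
    · obtain ⟨a, -, ha3, hae⟩ := perm4 σ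
      show β (tailPerm m (g i)) * α (permHom hstar σ) * (β (tailPerm m (g i)))⁻¹ ∈ α.range
      rw [hae, ← map_inv, ← map_mul, ← map_mul, ← map_inv]
      refine inner _ fun x hx => ?_
      show (tailPerm m (g i)).1 (a.1 ((tailPerm m (g i)⁻¹).1 x)) = x
      rw [ha3 hσ _ (tailPerm_high _ (le_trans (by norm_num) hx)), map_inv]
      exact Equiv.apply_symm_apply (tailPerm m (g i)).1 x
  have hPmul : ∀ τ τ', P τ → P τ' → P (τ * τ') := fun τ τ' h h' x hx => by
    obtain ⟨y, hy⟩ := h' x hx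
    obtain ⟨w', hw', hwe'⟩ := tail_conj_mem hstar hn τ' hx
    have e : y = w' := inclHom_injective hstar hn (by rw [himg τ' x y hy, hwe'])
    obtain ⟨z, hz⟩ := h y (e ▸ hw')
    refine ⟨z, hz.trans ?_⟩
    show β (tailPerm m τ) * α y * (β (tailPerm m τ))⁻¹ =
      β (tailPerm m (τ * τ')) * α x * (β (tailPerm m (τ * τ')))⁻¹
    rw [hy, map_mul, map_mul]
    show β (tailPerm m τ) * (β (tailPerm m τ') * α x * (β (tailPerm m τ'))⁻¹) * (β (tailPerm m τ))⁻¹ = _
    group
  have hP1 : P 1 := fun x hx => ⟨x, by simp [cj]⟩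
  have hP : ∀ τ, P τ := fun τ => by
    have hm' : τ ∈ Subgroup.closure (Set.range g) := hg ▸ Subgroup.mem_top τ
    induction hm' using Subgroup.closure_induction'' with
    | one => exact hP1
    | mem y hy => obtain ⟨i, rfl⟩ := hy; exact hPg i
    | inv_mem y hy =>
      obtain ⟨i, rfl⟩ := hy
      have hpow : ∀ k : ℕ, P (g i ^ k) := fun k => by
        induction k with
        | zero => rw [pow_zero]; exact hP1
        | succ k ih => rw [pow_succ]; exact hPmul _ _ ih (hPg i)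
      have hz : (g i)⁻¹ ∈ Submonoid.powers (g i) :=
        mem_powers_iff_mem_zpowers.2 (inv_mem (Subgroup.mem_zpowers (g i)))
      obtain ⟨k, hk⟩ := hz
      rw [← show g i ^ k = (g i)⁻¹ from hk]
      exact hpow k
    | mul a b _ _ iha ihb => exact hPmul a b iha ihb
  have top_of : ∀ h : H, (∀ x ∈ Sk 4 q 3, cj h x ∈ α.range) →
      (∀ σ, cj h (permHom hstar σ) ∈ α.range) → ∀ x, cj h x ∈ α.range := fun h h3 hp x => by
    have := gen_last hstar hF (α.range.comap (cj h)) h3 hp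
    exact (this ▸ Subgroup.mem_top x : x ∈ α.range.comap (cj h))
  let D : Glue F (m + 3) H hstar 4 :=
    { π := π
      μ := β
      B := α.range
      four := le_rfl
      le := hn
      inj := ?_
      map_B := ?_
      perm := hβ
      outer := ?_
      inner := inner
      shift := ?_
      odd := ?_ }
  refine D.bijective hF (hfin H α β D rfl rfl hα fun i => hrel (.inr i)) ?_
  · refine eq_top_iff.2 (hgen ▸ sup_le ?_ ?_)
    · exact fun x hx => Subgroup.subset_closure (Or.inl hx)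
    · exact fun x hx => Subgroup.subset_closure (Or.inr hx)
  · rintro _ ⟨x, rfl⟩ h
    rw [hinj x 1 (by rw [h, map_one, map_one]), map_one]
  · rw [MonoidHom.map_range, ← range_inclHom (q := q) hstar hn]
    congr 1
    exact MonoidHom.ext hα
  · intro σ hσ x hx
    obtain ⟨x, rfl⟩ := hx
    obtain ⟨τ, hτ⟩ := exists_tailPerm (σ := σ) fun i hi => hσ i (by omega)
    have hr : ∀ x, cj (β σ) x ∈ α.range := top_of _ (hτ ▸ hP τ) fun a => by
      obtain ⟨b, hb4, -, hbe⟩ := perm4 a
      show β σ * α (permHom hstar a) * (β σ)⁻¹ ∈ α.range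
      have hc : Commute σ b := Subtype.ext (Equiv.ext fun i => by
        show σ.1 (b.1 i) = b.1 (σ.1 i)
        by_cases hi : (i : ℕ) < 4
        · have h2 : ((b.1 i : Fin (m + 3)) : ℕ) < 4 := by
            by_contra h
            have := b.1.injective (hb4 _ (not_lt.1 h))
            rw [this] at h
            exact h hi
          rw [hσ i hi, hσ _ h2]
        · have h2 : 4 ≤ ((σ.1 i : Fin (m + 3)) : ℕ) := by
            by_contra h
            have := σ.1.injective (hσ _ (not_le.1 h))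
            rw [this] at h
            exact h (not_lt.1 hi)
          rw [hb4 i (not_lt.1 hi), hb4 _ h2])
      rw [hbe, (hc.map β).eq, mul_inv_cancel_right, ← hbe]
      exact ⟨_, rfl⟩
    obtain ⟨y, hy⟩ := hr x
    have e : y = x := inclHom_injective hstar hn (by
      rw [← hτ] at hy
      rw [himg τ x y hy, hτ, perm_commute_incl hstar hn hσ])
    rw [e] at hy
    have h' : α x = β σ * α x * (β σ)⁻¹ := hy
    rw [eq_mul_inv_iff_mul_eq] at h'
    exact h'.symm
  · intro a b c d hab hcd ha hb hc hd x hx hfix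
    obtain ⟨x, rfl⟩ := hx
    rw [hα] at hfix
    have e3 : c = Fin.castLE hn (3 : Fin 4) := Fin.ext (by simp; omega)
    rw [e3, act_incl_single] at hfix
    have hx3 : x ∈ Sk 4 q 3 := mem_Sk.2 fun i hi => by
      rw [show i = 3 from Fin.ext (by have := i.isLt; simp; omega)]; exact hfix
    have e : dswap a b c d hab hcd = tailPerm m (swap ⟨0, by omega⟩ ⟨1, by omega⟩) := by
      rw [tailPerm_swap (by simp) (by simp [Fin.ext_iff]) (by simp [tailEmb, Fin.ext_iff])]
      obtain rfl : a = 0 := Fin.ext (by simpa using ha)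
      obtain rfl : b = 1 := Fin.ext (by rw [hb, Fin.val_one])
      congr 1 <;> exact Fin.ext (by simp [tailEmb]; omega)
    rw [e]
    exact hP _ x hx3
  · intro a b c d hab hcd ha hb hc hd x hx
    obtain ⟨x, rfl⟩ := hx
    have hm3 : 3 ≤ m := by have := d.isLt; omega
    have e : dswap a b c d hab hcd = tailPerm m (swap ⟨1, by omega⟩ ⟨2, by omega⟩) := by
      rw [tailPerm_swap (by simp) (by simp [Fin.ext_iff]) (by simp [tailEmb, Fin.ext_iff])]
      obtain rfl : a = 0 := Fin.ext (by simpa using ha)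
      obtain rfl : b = 1 := Fin.ext (by rw [hb, Fin.val_one])
      congr 1 <;> exact Fin.ext (by simp [tailEmb]; omega)
    refine top_of _ (e ▸ hP _) (fun σ => ?_) x
    obtain ⟨b', hb4, -, hbe⟩ := perm4 σ
    show β (dswap a b c d hab hcd) * α (permHom hstar σ) * (β (dswap a b c d hab hcd))⁻¹ ∈ α.range
    rw [hbe, ← map_inv, ← map_mul, ← map_mul]
    refine inner _ fun i hi => ?_
    show (dswap a b c d hab hcd).1 (b'.1 ((dswap a b c d hab hcd).1⁻¹ i)) = i
    rw [hb4 _ ?_]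
    · exact Equiv.apply_symm_apply (dswap a b c d hab hcd).1 i
    show 4 ≤ (((swap a b * swap c d)⁻¹ i : Fin (m + 3)) : ℕ)
    rw [_root_.mul_inv_rev, Equiv.swap_inv, Equiv.swap_inv, Equiv.Perm.mul_apply,
      Equiv.swap_apply_of_ne_of_ne (a := a) (b := b) (fun e => by subst e; omega) (fun e => by subst e; omega),
      Equiv.swap_apply_def]
    split_ifs <;> omega

include hF in
/-- Gluing without further relations. -/
theorem presOn_glue (hm : 2 ≤ m) (hq : 3 ≤ q) {ι κ : Type} {f₁ : ι → Cfsg.SU 4 F q}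
    {f₂ : κ → alternatingGroup (Fin (m + 3))} {r₁ r₂ e : ℕ} (h₁ : PresOn f₁ r₁) (h₂ : PresOn f₂ r₂)
    (E : Fin e → Cfsg.SU 4 F q) (hE : ∀ i, E i ∈ Sk 4 q 3)
    (hEgen : Sk 4 q 3 ≤ Subgroup.closure (Set.range E ∪
      (permHom (q := q) hstar) '' (lowPerm 4 3 : Set (alternatingGroup (Fin 4))))) :
    PresOn (Sum.elim (inclHom hstar (by omega : 4 ≤ m + 3) ∘ f₁) (permHom hstar ∘ f₂))
      (r₁ + r₂ + ((if m = 2 then 1 else 2) * e + 2)) :=
  presOn_glue_extra hstar hF hm h₁ h₂ E hE hEgen (s := 0) Fin.elim0 (fun i => i.elim0)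
    fun _ _ _ _ _ _ _ _ _ => Or.inl (Or.inl hq)

end Cfsg.Agent.Small.SUPres
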