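import Cfsg.Agent.Lib.Small.SUPres.U4.Frame
import Cfsg.Agent.Lib.Small.SUPres.GluePres
import Cfsg.Agent.Lib.Small.BoundedPres.ShortTiny
import Cfsg.Agent.Lib.Classical.UnitaryOrders

/-!
Presentations of the special unitary groups and their projective quotients.
-/

set_option autoImplicit false
set_option linter.unusedSectionVars false
set_option linter.style.haveILetI false

namespace Cfsg.Agent.Small.SUPres

open Matrix Subgroup Cfsg.Agent.Small.BoundedPres Cfsg.Agent.Small.Unitary

universe u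

variable {F : Type u} [Field F] [Fintype F] {q : ℕ}

/-- The centre of a special unitary group is the normal closure of one element. -/
theorem center_normalClosure (hF : Fintype.card F = q ^ 2) {n : ℕ} (hn : 2 ≤ n) :
    ∃ z : Cfsg.SU n F q, normalClosure {z} = Subgroup.center (Cfsg.SU n F q) := by
  classical
  obtain ⟨p, e, s, hp, hchar, hqp, he, hs⟩ := Classical.exists_usigma hF
  haveI : Finite (Cfsg.SU n F q) := Subtype.finite
  have hscalar : ∀ x : ↥(Subgroup.center (Cfsg.SU n F q)),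
      ∃ c : F, x.1.1.1 = c • (1 : Matrix (Fin n) (Fin n) F) := by
    rintro ⟨z, hz⟩
    exact Classical.UCount.scalar_of_commute hs hn (M := z.1.1) fun x =>
      congrArg (fun y : ↥(Cfsg.SU n F q) => y.1.1) (Subgroup.mem_center_iff.mp hz x)
  let i0 : Fin n := ⟨0, by omega⟩
  let ev : ↥(Subgroup.center (Cfsg.SU n F q)) →* F :=
    { toFun := fun x => x.1.1.1 i0 i0
      map_one' := by simp
      map_mul' := fun x y => by
        obtain ⟨c, hc⟩ := hscalar x
        obtain ⟨d, hd⟩ := hscalar y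
        show (x.1.1.1 * y.1.1.1) i0 i0 = x.1.1.1 i0 i0 * y.1.1.1 i0 i0
        rw [hc, hd]; simp [mul_comm] }
  haveI hcyc : IsCyclic ↥(Subgroup.center (Cfsg.SU n F q)) := isCyclic_of_subgroup_isDomain ev fun x y h => by
    obtain ⟨c, hc⟩ := hscalar x
    obtain ⟨d, hd⟩ := hscalar y
    have h' : x.1.1.1 i0 i0 = y.1.1.1 i0 i0 := h
    refine Subtype.ext (Subtype.ext (Subtype.ext ?_))
    rw [hc, hd] at h' ⊢
    simp at h'
    rw [h']
  obtain ⟨z, hz⟩ := IsCyclic.exists_generator (α := ↥(Subgroup.center (Cfsg.SU n F q)))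
  refine ⟨z.1, le_antisymm (normalClosure_le_normal (by rintro _ rfl; exact z.2)) fun c hc => ?_⟩
  obtain ⟨i, hi⟩ := mem_zpowers_iff.1 (hz ⟨c, hc⟩)
  have h3 := congrArg Subtype.val hi
  simp only [Subgroup.coe_zpow] at h3
  rw [← h3]
  exact Subgroup.zpow_mem _ (subset_normalClosure (Set.mem_singleton (z.1 : Cfsg.SU n F q))) i

/-- The projective group costs one relation. -/
theorem presN_PSU (hF : Fintype.card F = q ^ 2) {n g r : ℕ} (hn : 2 ≤ n) (h : PresN g (Cfsg.SU n F q) r) :
    PresN g (Cfsg.PSU n F q) (r + 1) := by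
  obtain ⟨z, hz⟩ := center_normalClosure hF hn
  exact h.quotient z _ hz

section

variable [StarRing F] (hstar : ∀ x : F, star x = x ^ q) (hF : Fintype.card F = q ^ 2)

include hstar hF

/-- Four dimensions. -/
theorem presN_SU_four : PresN 6 (Cfsg.SU 4 F q) 28 := by
  obtain ⟨f, hf⟩ := U4.presOn_SU4 hstar hF
  have := hf.presN.succ.succ
  rw [Fintype.card_fin] at this
  exact this.mono (by split_ifs <;> omega)

/-- Two generators of the coordinate subgroup on three points. -/
theorem exists_three_gens (hq : q ≠ 2) :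
    ∃ E : Fin 2 → Cfsg.SU 4 F q, (∀ i, E i ∈ Sk 4 q 3) ∧
      Sk 4 q 3 ≤ closure (Set.range E ∪
        (permHom (q := q) hstar) '' (lowPerm 4 3 : Set (alternatingGroup (Fin 4)))) := by
  obtain ⟨a, b, hab⟩ := TwoGenU.gen_odd (n := 3) hstar hF (M := 1) le_rfl rfl (fun h => hq h.2)
  let ι := inclHom (F := F) (q := q) hstar (by norm_num : 3 ≤ 4)
  have hr : ι.range = Sk 4 q 3 := range_inclHom (q := q) hstar (by norm_num)
  refine ⟨![ι a, ι b], fun i => ?_, ?_⟩
  · fin_cases i <;> exact hr ▸ ⟨_, rfl⟩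
  · rw [← hr, MonoidHom.range_eq_map, ← hab, MonoidHom.map_closure]
    refine closure_mono ?_
    rw [Set.image_pair]
    rintro x (rfl | rfl)
    · exact Or.inl ⟨0, rfl⟩
    · exact Or.inl ⟨1, rfl⟩

/-- Five or more dimensions, more than two elements in the fixed field. -/
theorem presN_SU_large (hq : 3 ≤ q) (m : ℕ) (hm : 2 ≤ m) :
    PresN 6 (Cfsg.SU (m + 3) F q) (if m = 2 then 34 else 39) := by
  obtain ⟨f₁, h₁⟩ := U4.presOn_SU4 hstar hF
  rw [if_neg (by omega : ¬ q = 2)] at h₁
  obtain ⟨E, hE, hEgen⟩ := exists_three_gens hstar hF (by omega)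
  have hcard : Fintype.card (Fin 4 ⊕ Fin 2) = 6 := by simp
  by_cases h2 : m = 2
  · subst h2
    obtain ⟨f₂, h₂⟩ := PresOn.exists_of_presN (alt_base_pres 3 Nat.prime_three le_rfl)
    have := (presOn_glue hstar hF le_rfl hq h₁ h₂ E hE hEgen).presN
    rw [hcard] at this
    exact this.mono (by norm_num)
  · obtain ⟨f₂, h₂⟩ := PresOn.exists_of_presN (alt_two (m + 3) (by omega))
    have := (presOn_glue hstar hF hm hq h₁ h₂ E hE hEgen).presN
    rw [hcard] at this
    exact this.mono (by rw [if_neg h2, if_neg h2])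

end

end Cfsg.Agent.Small.SUPres
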