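import Cfsg.Agent.Lib.Small.SUPres.All
import Cfsg.Agent.Lib.Small.SU3Pres.Three
import Cfsg.Agent.Lib.Small.TwoGen.HermModels

/-!
Presentations of the projective special unitary groups on two generators.
-/

set_option autoImplicit false
set_option linter.unusedSectionVars false
set_option linter.style.haveILetI false

namespace Cfsg.Agent.Small.SUPres

open Cfsg.Agent.Small.BoundedPres

universe u

theorem pres_three {F : Type u} [Field F] [StarRing F] [Fintype F] {q : ℕ} (D : SU3Pres.Prm F q) (h3 : q = 3) :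
    ∃ rels : Finset (FreeGroup (Fin 3)), rels.card ≤ 13 ∧
      Nonempty (PresentedGroup (↑rels : Set (FreeGroup (Fin 3))) ≃* SU3Pres.U3 F) := by
  subst h3
  exact SU3Pres.presentation_three D

variable {F : Type u} [Field F] [Fintype F] {q : ℕ} (hF : Fintype.card F = q ^ 2)
include hF

/-- Three dimensions. -/
theorem presN_SU3 (hq : 3 ≤ q) : PresN 3 (Cfsg.SU 3 F q) 22 := by
  obtain ⟨S, hS⟩ := exists_starRing hF
  letI := S
  obtain ⟨t0, ht0⟩ := IsCyclic.exists_generator (α := Fˣ)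
  let D : SU3Pres.Prm F q := { hF := hF, hstar := hS, q3 := by omega, t0 := t0, gen := ht0 }
  obtain ⟨φ⟩ := SU3Pres.exists_equiv hS hF
  by_cases h3 : q = 3
  · obtain ⟨rels, hc, ⟨e⟩⟩ := pres_three D h3
    exact ⟨rels, hc.trans (by norm_num), ⟨e.trans φ⟩⟩
  · obtain ⟨rels, hc, e, -⟩ := SU3Pres.presentation D (by omega)
    exact ⟨rels, hc, ⟨e.trans φ⟩⟩

/-- The projective group has a bounded presentation. -/
theorem pres_PSU {n : ℕ} (hn : 3 ≤ n) (h32 : ¬(n = 3 ∧ q = 2)) : Pres (Cfsg.PSU n F q) 78 := by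
  rcases eq_or_lt_of_le hn with rfl | h4
  · obtain ⟨S, -⟩ := exists_starRing hF
    have := @Hermitian.q_two_le F _ _ S _ hF
    exact Pres.mono ⟨3, presN_PSU hF (by norm_num) (presN_SU3 hF (by omega))⟩ (by norm_num)
  · exact Pres.mono ⟨6, presN_PSU hF (by omega) (presN_SU_all hF h4)⟩ (by norm_num)

/-- Two generators and at most eighty relations. -/
theorem psu_two_gen {n : ℕ} (hn : 3 ≤ n) (h32 : ¬(n = 3 ∧ q = 2)) :
    ∃ rels : Finset (FreeGroup (Fin 2)), rels.card ≤ 80 ∧
      Nonempty (PresentedGroup (↑rels : Set (FreeGroup (Fin 2))) ≃* Cfsg.PSU n F q) := by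
  obtain ⟨S, hS⟩ := exists_starRing hF
  letI := S
  obtain ⟨a, b, hab⟩ := TwoGenU.psu_two_generated hS hF hn h32
  exact (pres_PSU hF hn h32).two_gen a b hab

end Cfsg.Agent.Small.SUPres
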