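import Cfsg.Agent.Lib.Small.SUPres.PresOn
import Cfsg.Agent.Lib.Small.BoundedPres.Alt
import Cfsg.Agent.Lib.Lead.SL2PresOdd
import Cfsg.Agent.Lib.Small.SL2.Classes

/-!
Four relations for the special linear group of degree two over three elements.
-/

set_option autoImplicit false
set_option linter.style.haveILetI false

namespace Cfsg.Agent.Small.SUPres

open Matrix Subgroup Cfsg.Agent.Lead.SL2Pres Cfsg.Agent.Small.BoundedPres Cfsg.Agent.Small.AltDeg
open scoped MatrixGroups

variable {K : Type*} [Field K] [Fintype K]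

theorem exists_field_three (hK : Fintype.card K = 3) (x : K) : x = 0 ∨ x = 1 ∨ x = -1 := by
  by_contra h
  push Not at h
  haveI : CharP K 3 := charP_of_card_eq_prime (R := K) hK
  have h1 : (1 : K) ≠ -1 := fun e => by
    have : ((2 : ℕ) : K) = 0 := by push_cast; linear_combination e
    rw [CharP.cast_eq_zero_iff K 3] at this
    omega
  classical
  have := Finset.card_le_univ ({x, 0, 1, -1} : Finset K)
  rw [hK, Finset.card_insert_of_notMem (by simp [h.1, h.2.1, h.2.2]), Finset.card_insert_of_notMem (by simp),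
    Finset.card_insert_of_notMem (by simpa using h1), Finset.card_singleton] at this
  omega

/-- Four relations on a root element and the Weyl element. -/
theorem presOn_SL2_three (hK : Fintype.card K = 3) :
    PresOn (![un 1, tw] : Fin 2 → SL(2, K)) 4 := by
  classical
  haveI : CharP K 3 := charP_of_card_eq_prime (R := K) hK
  have h3 : (3 : K) = 0 := by exact_mod_cast CharP.cast_eq_zero K 3
  let U : FreeGroup (Fin 2) := FreeGroup.of 0
  let T : FreeGroup (Fin 2) := FreeGroup.of 1
  let rels : Finset (FreeGroup (Fin 2)) := {U ^ 3, T ^ 4, T ^ 2 * U * (U * T ^ 2)⁻¹, (T * U) ^ 3}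
  let g : Fin 2 → SL(2, K) := ![un 1, tw]
  have hr : ∀ w ∈ (↑rels : Set (FreeGroup (Fin 2))), FreeGroup.lift g w = 1 := by
    intro w hw
    simp only [rels, Finset.coe_insert, Finset.coe_singleton, Set.mem_insert_iff, Set.mem_singleton_iff] at hw
    rcases hw with rfl | rfl | rfl | rfl <;>
      simp only [map_mul, map_inv, map_pow, U, T, FreeGroup.lift_apply_of, g, Matrix.cons_val_zero,
        Matrix.cons_val_one, mul_inv_eq_one] <;>
      apply Matrix.SpecialLinearGroup.ext <;> intro i j <;>
      simp only [pow_succ, pow_zero, one_mul, Matrix.SpecialLinearGroup.coe_mul] <;>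
      fin_cases i <;> fin_cases j <;> simp [un, tw, Matrix.mul_apply, Fin.sum_univ_two] <;>
      (first | linear_combination h3 | linear_combination -h3 | ring)
  let P := PresentedGroup (↑rels : Set (FreeGroup (Fin 2)))
  let π : P →* SL(2, K) := PresentedGroup.toGroup hr
  let u : P := PresentedGroup.of 0
  let t : P := PresentedGroup.of 1
  have rel : ∀ w ∈ rels, PresentedGroup.mk (↑rels : Set (FreeGroup (Fin 2))) w = 1 := fun w hw =>
    PresentedGroup.one_of_mem (Finset.mem_coe.2 hw)
  have u3 : u ^ 3 = 1 := by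
    have := rel (U ^ 3) (by simp [rels]); rwa [map_pow] at this
  have t4 : t ^ 4 = 1 := by
    have := rel (T ^ 4) (by simp [rels]); rwa [map_pow] at this
  have tu : t ^ 2 * u = u * t ^ 2 := by
    have := rel (T ^ 2 * U * (U * T ^ 2)⁻¹) (by simp [rels])
    rwa [map_mul, map_inv, map_mul, map_mul, map_pow, mul_inv_eq_one] at this
  have tu3 : (t * u) ^ 3 = 1 := by
    have := rel ((T * U) ^ 3) (by simp [rels]); rwa [map_pow, map_mul] at this
  have hgen : closure ({u, t} : Set P) = ⊤ := by
    rw [eq_top_iff, ← PresentedGroup.closure_range_of (↑rels : Set (FreeGroup (Fin 2))), closure_le]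
    rintro _ ⟨k, rfl⟩
    fin_cases k
    · exact subset_closure (Or.inl rfl)
    · exact subset_closure (Or.inr rfl)
  let Z : Subgroup P := zpowers (t ^ 2)
  have hZc : t ^ 2 ∈ center P := by
    rw [Subgroup.mem_center_iff]
    intro x
    have hx : x ∈ closure ({u, t} : Set P) := hgen ▸ Subgroup.mem_top x
    induction hx using closure_induction with
    | mem y hy =>
      rcases hy with rfl | rfl
      · exact tu.symm
      · rw [← pow_succ', ← pow_succ]
    | one => simp
    | mul a b _ _ iha ihb => rw [mul_assoc, ihb, ← mul_assoc, iha, mul_assoc]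
    | inv a _ ih => exact (Commute.inv_left (show Commute a (t ^ 2) from ih)).eq
  haveI hZn : Z.Normal := ⟨fun n hn g => by
    have := Subgroup.mem_center_iff.1 (zpowers_le.2 hZc hn) g
    rw [this, mul_inv_cancel_right]
    exact hn⟩
  have ht22 : (t ^ 2) ^ 2 = 1 := by rw [← pow_mul]; exact t4
  haveI : Finite Z := by
    refine (isOfFinOrder_iff_pow_eq_one.2 ⟨2, by norm_num, ht22⟩).finite_zpowers
  have hZ : Nat.card Z ≤ 2 := by
    rw [Nat.card_zpowers]
    exact Nat.le_of_dvd (by norm_num) (orderOf_dvd_of_pow_eq_one ht22)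
  set m := QuotientGroup.mk' Z
  have hm2 : m t ^ 2 = 1 := by
    rw [← map_pow]; exact (QuotientGroup.eq_one_iff _).2 (mem_zpowers _)
  have hxy : m (t * u) * m u⁻¹ = m t := by rw [← map_mul, mul_inv_cancel_right]
  obtain ⟨θ, hθ⟩ := carmichael_hom 2 (by norm_num) ![m (t * u), m u⁻¹]
    (fun i => by
      fin_cases i
      · show m (t * u) ^ 3 = 1
        rw [← map_pow, tu3, map_one]
      · show m u⁻¹ ^ 3 = 1
        rw [← map_pow, inv_pow, u3, inv_one, map_one])
    (fun i j hij => by
      have hyx : (m u⁻¹ * m (t * u)) ^ 2 = 1 := by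
        calc (m u⁻¹ * m (t * u)) ^ 2 = m u⁻¹ * (m (t * u) * m u⁻¹) ^ 2 * (m u⁻¹)⁻¹ := by
              rw [pow_two, pow_two]; group
          _ = 1 := by rw [hxy, hm2, mul_one, mul_inv_cancel]
      fin_cases i <;> fin_cases j
      all_goals first
        | exact absurd rfl hij
        | (show (m (t * u) * m u⁻¹) ^ 2 = 1; rw [hxy, hm2])
        | exact hyx)
  have hθs : Function.Surjective θ := by
    rw [← MonoidHom.range_eq_top, eq_top_iff,
      ← Subgroup.map_top_of_surjective m (QuotientGroup.mk'_surjective Z), ← hgen,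
      MonoidHom.map_closure, closure_le]
    have hu : m u ∈ θ.range := ⟨(gcyc 2 1)⁻¹, by rw [map_inv, hθ]; simp⟩
    rintro _ ⟨x, (rfl | rfl), rfl⟩
    · exact hu
    · rw [← hxy]
      exact mul_mem ⟨gcyc 2 0, by rw [hθ]; rfl⟩ ⟨gcyc 2 1, by rw [hθ]; rfl⟩
  haveI : Finite (P ⧸ Z) := Finite.of_surjective θ hθs
  have hQ : Nat.card (P ⧸ Z) ≤ 12 := by
    refine (Nat.card_le_card_of_surjective θ hθs).trans (le_of_eq ?_)
    show Nat.card (alternatingGroup (Fin 4)) = 12
    rw [Nat.card_eq_fintype_card]
    decide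
  haveI : Finite P := Finite.of_subgroup_quotient Z
  have hP : Nat.card P ≤ 24 := by
    rw [Subgroup.card_eq_card_quotient_mul_card_subgroup Z]
    exact (Nat.mul_le_mul hQ hZ).trans (by norm_num)
  obtain ⟨ζ, hζ⟩ := IsCyclic.exists_generator (α := Kˣ)
  have hsurj : Function.Surjective π := by
    rw [← MonoidHom.range_eq_top]
    have ht : tw ∈ π.range := ⟨t, PresentedGroup.toGroup.of hr⟩
    have hu : un 1 ∈ π.range := ⟨u, PresentedGroup.toGroup.of hr⟩
    have hun : ∀ c : K, un c ∈ π.range := fun c => by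
      rcases exists_field_three hK c with rfl | rfl | rfl
      · rw [un_zero']; exact one_mem _
      · exact hu
      · rw [show un (-1 : K) = (un 1)⁻¹ from eq_inv_of_mul_eq_one_left (by rw [← un_add, neg_add_cancel, un_zero'])]
        exact inv_mem hu
    refine surjective_of_gens (MonoidHom.id _) (fun x => ⟨x, rfl⟩) ζ hζ _ hun ?_ ht
    rw [MonoidHom.id_apply]
    rcases exists_field_three hK (ζ : K) with h | h | h
    · exact absurd h ζ.ne_zero
    · rw [show ζ = 1 from Units.ext h, dg_one]; exact one_mem _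
    · rw [show ζ = -1 from Units.ext h, ← tw_tw]; exact mul_mem ht ht
  have hbij : Function.Bijective π := hsurj.bijective_of_nat_card_le (by
    rw [Cfsg.Agent.Small.SL2C.card_SL2, hK]
    exact hP)
  refine PresOn.of_equiv rels (MulEquiv.ofBijective π hbij) (fun i => PresentedGroup.toGroup.of hr) ?_
  refine (Finset.card_insert_le _ _).trans ?_
  refine Nat.succ_le_succ ((Finset.card_insert_le _ _).trans ?_)
  refine Nat.succ_le_succ ((Finset.card_insert_le _ _).trans ?_)
  exact Nat.succ_le_succ (Finset.card_singleton _).le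
where
  un_zero' : un (0 : K) = 1 := Matrix.SpecialLinearGroup.ext _ _ fun i j => by
    fin_cases i <;> fin_cases j <;> simp [un]

end Cfsg.Agent.Small.SUPres
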